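import Cfsg.Agent.Lib.IsaacsPassman.Steps
import Cfsg.Agent.Lib.Char.Artin
import Cfsg.Agent.Lib.PrimeDegrees.Simple

/-!
# The quotient by a maximal normal subgroup with nonabelian quotient
-/

set_option autoImplicit false
set_option linter.style.haveILetI false
set_option linter.unusedSectionVars false

namespace CfsgLib.IP

open Cfsg CfsgLib.Char
open scoped ComplexConjugate CfsgLib.Char commutatorElement

variable {S : Type*} [Group S] [Fintype S] {b : ℕ}

theorem commutator_mem (x y : S) : x * y * x⁻¹ * y⁻¹ ∈ commutator S :=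
  Subgroup.commutator_mem_commutator (Subgroup.mem_top x) (Subgroup.mem_top y)

theorem linear_kills_commutator {χ : S → ℂ} (hχ : IsCharacter S χ) (hl : χ 1 = 1) {x : S}
    (hx : x ∈ commutator S) : χ x = 1 := by
  rw [← linearHom_apply hχ hl, MonoidHom.mem_ker.mp (Abelianization.commutator_subset_ker (linearHom hχ hl) hx),
    Units.val_one]

theorem exists_nonlinear (hS : commutator S ≠ ⊥) :
    ∃ (ψ : IrrCharacter S) (f : ℕ), (ψ : S → ℂ) 1 = f ∧ 2 ≤ f := by
  by_contra hlin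
  push Not at hlin
  refine hS ((Subgroup.eq_bot_iff_forall _).mpr fun x hx => eq_one_of_forall_irr fun χ => ?_)
  obtain ⟨d, hd0, hd⟩ := exists_nat_degree_irr χ.2
  have hd1 : d = 1 := by have := hlin χ d hd; omega
  have hl : (χ : S → ℂ) 1 = 1 := by rw [hd, hd1, Nat.cast_one]
  rw [hl, linear_kills_commutator (isCharacter_of_isIrr χ.2) hl hx]

theorem faithful (hmin : ∀ M : Subgroup S, M.Normal → M ≠ ⊥ → commutator S ≤ M)
    {ψ : IrrCharacter S} {f : ℕ} (hf : (ψ : S → ℂ) 1 = f) (hf2 : 2 ≤ f) {x : S}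
    (hx : (ψ : S → ℂ) x = (ψ : S → ℂ) 1) : x = 1 := by
  obtain ⟨L, hL, hmem, -⟩ := exists_kernel (isCharacter_of_isIrr ψ.2)
  haveI : Fintype (commutator S) := Fintype.ofFinite _
  by_contra hne
  have hLb : L ≠ ⊥ := fun e0 => hne (by
    have := (hmem x).mpr hx
    rwa [e0, Subgroup.mem_bot] at this)
  classical
  haveI : Finite (LinTriv (commutator S)) := by
    haveI : Finite (S →* ℂˣ) := Finite.of_equiv _ (linearEquiv (G := S))
    infer_instance
  haveI : Fintype (LinTriv (commutator S)) := Fintype.ofFinite _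
  obtain ⟨-, hsum⟩ := sum_linTriv (commutator S) commutator_mem
  have h : classInner (indFun (commutator S) (fun _ : commutator S => (1 : ℂ))) (ψ : S → ℂ) = (f : ℂ) := by
    rw [frobenius_reciprocity (commutator S) _ (isClassFunction_of_isCharacter (isCharacter_of_isIrr ψ.2))]
    have hK : (Nat.card (commutator S) : ℂ) ≠ 0 := Nat.cast_ne_zero.mpr Nat.card_pos.ne'
    have hker : ∀ k : commutator S, (ψ : S → ℂ) k = (f : ℂ) := fun k => by
      rw [(hmem k).mp (hmin L hL hLb k.2), hf]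
    simp [classInner, hker, hK]
  rw [hsum, classInner_sum_left,
    Finset.sum_eq_zero (fun β _ => classInner_irr_ne (isIrrCharacter_monoidHom β.1) ψ.2 ?_)] at h
  · have : f = 0 := by exact_mod_cast h.symm
    omega
  · intro e
    have h1 := congrFun e 1
    simp only [map_one, Units.val_one, hf] at h1
    have : f = 1 := by exact_mod_cast h1.symm
    omega

theorem central_mul {ψ : IrrCharacter S} {z : S} (hz : z ∈ Subgroup.center S) :
    ∃ ω : ℂ, ‖ω‖ = 1 ∧ ∀ g, (ψ : S → ℂ) (z * g) = ω * (ψ : S → ℂ) g := by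
  obtain ⟨n, ρ, hρ, e⟩ := ψ.2
  obtain ⟨d, hd0, hd⟩ := exists_nat_degree_irr ψ.2
  let T : Representation.IntertwiningMap ρ ρ := ⟨ρ z, fun g => by
    rw [← Module.End.mul_eq_comp, ← Module.End.mul_eq_comp, ← map_mul, ← map_mul,
      Subgroup.mem_center_iff.mp hz g]⟩
  obtain ⟨c, hc⟩ :=
    (Representation.IsIrreducible.algebraMap_intertwiningMap_bijective_of_isAlgClosed (ρ := ρ)).2 T
  have hTc : ρ z = c • (1 : Module.End ℂ (Fin n → ℂ)) := by
    have h := congrArg Representation.IntertwiningMap.toLinearMap hc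
    refine Eq.trans h.symm ?_
    ext v; simp [Algebra.algebraMap_eq_smul_one]
  have hmul : ∀ g, (ψ : S → ℂ) (z * g) = c * (ψ : S → ℂ) g := fun g => by
    rw [← e]
    show LinearMap.trace ℂ _ (ρ (z * g)) = c * LinearMap.trace ℂ _ (ρ g)
    rw [map_mul, hTc, smul_mul_assoc, one_mul, map_smul, smul_eq_mul]
  refine ⟨c, ?_, hmul⟩
  have h1 := PrimeDegrees.norm_central ψ.2 hd hz
  have h2 := hmul 1
  rw [mul_one, hd] at h2
  rw [h2, norm_mul, Complex.norm_natCast] at h1
  exact mul_right_cancel₀ (Nat.cast_ne_zero.mpr hd0.ne') (h1.trans (one_mul _).symm)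

/-- The central case: the centre has index `f²`. -/
theorem central_case (hmin : ∀ M : Subgroup S, M.Normal → M ≠ ⊥ → commutator S ≤ M)
    (hc : commutator S ≤ Subgroup.center S) {ψ : IrrCharacter S} {f : ℕ}
    (hf : (ψ : S → ℂ) 1 = f) (hf2 : 2 ≤ f) : (Subgroup.center S).index = f * f := by
  classical
  have hvan : ∀ x, x ∉ Subgroup.center S → (ψ : S → ℂ) x = 0 := by
    intro x hx
    obtain ⟨y, hy⟩ : ∃ y, y * x ≠ x * y := by
      by_contra h
      push Not at h
      exact hx (Subgroup.mem_center_iff.mpr h)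
    set z := y * x * y⁻¹ * x⁻¹ with hz
    have hzc : z ∈ Subgroup.center S := hc (commutator_mem y x)
    obtain ⟨ω, -, hω⟩ := central_mul (ψ := ψ) hzc
    have h1 : (ψ : S → ℂ) x = ω * (ψ : S → ℂ) x := by
      rw [← hω, hz, inv_mul_cancel_right]
      exact ((isClassFunction_of_isCharacter (isCharacter_of_isIrr ψ.2)) x y).symm
    by_contra h0
    have hω1 : ω = 1 := mul_right_cancel₀ h0 (h1.symm.trans (one_mul _).symm)
    have hz1 : z = 1 := faithful hmin hf hf2 (by
      have := hω 1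
      rwa [mul_one, hω1, one_mul] at this)
    rw [hz, mul_inv_eq_one, mul_inv_eq_iff_eq_mul] at hz1
    exact hy hz1
  have h := classInner_irr_self ψ.2
  rw [classInner_self_eq] at h
  have h' : (Nat.card S : ℝ)⁻¹ * ∑ g, ‖(ψ : S → ℂ) g‖ ^ 2 = 1 := by exact_mod_cast h
  have hsum : ∑ g, ‖(ψ : S → ℂ) g‖ ^ 2 = (Nat.card (Subgroup.center S) : ℝ) * (f : ℝ) ^ 2 := by
    rw [← Finset.sum_filter_add_sum_filter_not Finset.univ (fun g => g ∈ Subgroup.center S),
      Finset.sum_congr rfl (fun g hg => show ‖(ψ : S → ℂ) g‖ ^ 2 = (f : ℝ) ^ 2 by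
        rw [PrimeDegrees.norm_central ψ.2 hf (Finset.mem_filter.mp hg).2]),
      Finset.sum_eq_zero (s := Finset.univ.filter fun g => ¬ g ∈ Subgroup.center S)
        (fun g hg => by rw [hvan g (Finset.mem_filter.mp hg).2]; simp),
      add_zero, Finset.sum_const, nsmul_eq_mul, Nat.card_eq_fintype_card, Fintype.card_subtype]
  rw [hsum, inv_mul_eq_one₀ (Nat.cast_ne_zero.mpr Nat.card_pos.ne'),
    ← (Subgroup.center S).card_mul_index, Nat.cast_mul] at h'
  have h'' := mul_left_cancel₀ (Nat.cast_ne_zero.mpr Nat.card_pos.ne') h'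
  rw [sq] at h''
  exact_mod_cast h''

/-- The facts about an abelian, noncentral derived subgroup. -/
theorem abelian_case (hmin : ∀ M : Subgroup S, M.Normal → M ≠ ⊥ → commutator S ≤ M)
    (hab : ∀ a ∈ commutator S, ∀ c ∈ commutator S, a * c = c * a)
    (hnc : ¬ commutator S ≤ Subgroup.center S) :
    (∀ x, x ∉ commutator S → ∀ k ∈ commutator S, x * k = k * x → k = 1) ∧
    ∀ (ψ : IrrCharacter S) (f : ℕ), (ψ : S → ℂ) 1 = f → 2 ≤ f → (commutator S).index ≤ f := by
  classical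
  set K := commutator S with hK
  haveI : Fintype K := Fintype.ofFinite K
  set D := Subgroup.centralizer (K : Set S) with hD
  have hfix : ∀ x, x ∉ D → ∀ k ∈ K, x * k = k * x → k = 1 := by
    intro x hx k hk hxk
    set M := K ⊓ Subgroup.centralizer ({x} : Set S) with hM
    haveI : M.Normal := ⟨fun m hm y => by
      refine ⟨Subgroup.Normal.conj_mem inferInstance m hm.1 y, ?_⟩
      have h1 := Subgroup.mem_centralizer_singleton_iff.mp hm.2
      have hk' : x⁻¹ * y⁻¹ * x * y ∈ K := by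
        have := commutator_mem x⁻¹ y⁻¹
        rwa [inv_inv, inv_inv] at this
      have h2 := hab _ hk' _ hm.1
      refine Subgroup.mem_centralizer_singleton_iff.mpr ?_
      calc y * m * y⁻¹ * x = y * (m * (x * (x⁻¹ * y⁻¹ * x * y))) * y⁻¹ := by group
        _ = y * (x * ((x⁻¹ * y⁻¹ * x * y) * m)) * y⁻¹ := by rw [← mul_assoc m, h1, h2, mul_assoc x m]
        _ = x * (y * m * y⁻¹) := by group⟩
    by_contra hk1
    have hMne : M ≠ ⊥ := fun e => hk1 (by
      have : k ∈ M := ⟨hk, Subgroup.mem_centralizer_singleton_iff.mpr hxk.symm⟩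
      rwa [e, Subgroup.mem_bot] at this)
    exact hx (Subgroup.mem_centralizer_iff.mpr fun m hm =>
      Subgroup.mem_centralizer_singleton_iff.mp (hmin M inferInstance hMne hm).2)
  obtain ⟨x₀, hx₀⟩ : ∃ x, x ∉ D := by
    by_contra h
    push Not at h
    exact hnc fun k hk => Subgroup.mem_center_iff.mpr fun g =>
      ((Subgroup.mem_centralizer_iff.mp (h g)) k hk).symm
  have hsurj : ∀ x, x ∉ D → ∀ m ∈ K, ∃ k ∈ K, x * k * x⁻¹ * k⁻¹ = m := by
    intro x hx m hm
    let φ : K → K := fun k => ⟨x * k * x⁻¹ * (k : S)⁻¹, commutator_mem x k⟩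
    have hinj : Function.Injective φ := by
      intro k₁ k₂ h
      have h' : x * (k₁ : S) * x⁻¹ * (k₁ : S)⁻¹ = x * (k₂ : S) * x⁻¹ * (k₂ : S)⁻¹ := congrArg Subtype.val h
      have hc1 := hab _ (Subgroup.Normal.conj_mem inferInstance _ k₂.2 x : x * k₂ * x⁻¹ ∈ K) _ k₁.2
      have h1 : x * ((k₂ : S)⁻¹ * k₁) = (k₂ : S)⁻¹ * k₁ * x := by
        have e1 : x * (k₁ : S) * x⁻¹ = x * (k₂ : S) * x⁻¹ * (k₂ : S)⁻¹ * k₁ := by
          rw [← h']; group
        calc x * ((k₂ : S)⁻¹ * k₁) = (x * (k₂ : S) * x⁻¹)⁻¹ * (x * k₁ * x⁻¹) * x := by group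
          _ = (x * (k₂ : S) * x⁻¹)⁻¹ * (x * (k₂ : S) * x⁻¹ * (k₂ : S)⁻¹ * k₁) * x := by rw [← e1]
          _ = (k₂ : S)⁻¹ * k₁ * x := by group
      have h2 := hfix x hx _ (K.mul_mem (K.inv_mem k₂.2) k₁.2) h1
      exact Subtype.ext (inv_mul_eq_one.mp h2).symm
    obtain ⟨k, hk⟩ := (Finite.injective_iff_surjective.mp hinj) ⟨m, hm⟩
    exact ⟨k, k.2, congrArg Subtype.val hk⟩
  have hDK : ∀ d ∈ D, d ∈ K := by
    intro d hd
    obtain ⟨k, hk, hke⟩ := hsurj x₀ hx₀ _ (commutator_mem x₀ d)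
    set e := k⁻¹ * d with he
    have hde : ∀ m ∈ K, d * m = m * d := fun m hm => ((Subgroup.mem_centralizer_iff.mp hd) m hm).symm
    have heD : ∀ m ∈ K, e * m = m * e := fun m hm => by
      rw [he, mul_assoc, hde m hm, ← mul_assoc, hab _ (K.inv_mem hk) m hm, mul_assoc]
    have hex : x₀ * e = e * x₀ := by
      have e1 : x₀ * d * x₀⁻¹ = x₀ * k * x₀⁻¹ * k⁻¹ * d := by
        calc x₀ * d * x₀⁻¹ = (x₀ * d * x₀⁻¹ * d⁻¹) * d := by group
          _ = _ := by rw [← hke]
      calc x₀ * e = (x₀ * k * x₀⁻¹)⁻¹ * (x₀ * d * x₀⁻¹) * x₀ := by rw [he]; group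
        _ = (x₀ * k * x₀⁻¹)⁻¹ * (x₀ * k * x₀⁻¹ * k⁻¹ * d) * x₀ := by rw [e1]
        _ = e * x₀ := by rw [he]; group
    have hec : e ∈ Subgroup.center S := by
      refine Subgroup.mem_center_iff.mpr fun y => ?_
      have hz : e * y * e⁻¹ * y⁻¹ ∈ K := commutator_mem e y
      have hk' := commutator_mem x₀ y
      set k' := x₀ * y * x₀⁻¹ * y⁻¹
      have h1 : x₀ * (e * y * e⁻¹ * y⁻¹) = (e * y * e⁻¹ * y⁻¹) * x₀ := by
        calc x₀ * (e * y * e⁻¹ * y⁻¹)
            = (x₀ * e) * y * e⁻¹ * y⁻¹ := by group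
          _ = e * (x₀ * y * x₀⁻¹ * y⁻¹) * y * (x₀ * e⁻¹) * y⁻¹ := by rw [hex]; group
          _ = k' * e * y * (e⁻¹ * x₀) * y⁻¹ := by
              rw [heD k' hk']
              congr 2
              rw [eq_inv_mul_iff_mul_eq, ← mul_assoc, ← hex, mul_inv_cancel_right]
          _ = k' * (e * y * e⁻¹ * y⁻¹) * (y * x₀ * y⁻¹) := by group
          _ = (e * y * e⁻¹ * y⁻¹) * k' * (y * x₀ * y⁻¹) := by rw [hab k' hk' _ hz]
          _ = (e * y * e⁻¹ * y⁻¹) * x₀ := by simp only [k']; group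
      have h2 := hfix x₀ hx₀ _ hz h1
      rw [mul_inv_eq_one, mul_inv_eq_iff_eq_mul] at h2
      exact h2.symm
    have he1 : e = 1 := by
      by_contra hne
      exact hnc (hmin _ inferInstance fun h0 => hne (by rwa [h0, Subgroup.mem_bot] at hec))
    rw [he, inv_mul_eq_one] at he1
    exact he1 ▸ hk
  refine ⟨fun x hx => hfix x fun h => hx (hDK x h), fun ψ f hf hf2 => ?_⟩
  obtain ⟨θ, e, dθ, he, he0, hdθ, ht0, -, hdeg⟩ := clifford_norm K ψ.2
  have hl : (θ : K → ℂ) 1 = 1 :=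
    degree_one_of_comm (fun a c => Subtype.ext (hab a a.2 c c.2)) θ
  have hcon : classInner (fun n : K => (ψ : S → ℂ) n) (θ : K → ℂ) ≠ 0 := by
    rw [he]; exact Nat.cast_ne_zero.mpr he0.ne'
  have hI : inertia K (θ : K → ℂ) ≤ K := by
    intro a ha
    by_contra haK
    have haD : a ∉ D := fun h => haK (hDK a h)
    have hθ1 : ∀ m : K, (θ : K → ℂ) m = 1 := by
      intro m
      obtain ⟨k, hk, hke⟩ := hsurj a haD m m.2
      have h1 := (mem_inertia_iff K).mp ha ⟨k, hk⟩
      have h2 := linear_mul (isCharacter_of_isIrr θ.2) hl m ⟨k, hk⟩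
      have h3 : m * ⟨k, hk⟩ = (⟨a * k * a⁻¹, Subgroup.Normal.conj_mem inferInstance _ hk a⟩ : K) :=
        Subtype.ext (by show (m : S) * k = a * k * a⁻¹; rw [← hke]; group)
      rw [h3] at h2
      have h4 := h1.symm.trans h2
      have h5 : (θ : K → ℂ) ⟨k, hk⟩ ≠ 0 := by
        rw [← linearHom_apply (isCharacter_of_isIrr θ.2) hl]; exact Units.ne_zero _
      exact (mul_right_cancel₀ h5 ((one_mul _).trans h4)).symm
    obtain ⟨k, hkK, hk1⟩ := (Subgroup.bot_or_exists_ne_one K).resolve_left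
      fun e0 => hnc (e0 ▸ bot_le)
    refine hk1 (faithful hmin hf hf2 ?_)
    have hexp := clifford K ψ.2 θ.2 hcon
    have h1 := congrFun hexp ⟨k, hkK⟩
    have h2 := congrFun hexp 1
    simp only [Pi.smul_apply, Finset.sum_apply, OneMemClass.coe_one] at h1 h2
    rw [h1, h2]
    congr 1
    refine Finset.sum_congr rfl fun φ hφ => ?_
    obtain ⟨g, rfl⟩ := (mem_orbit K).mp hφ
    rw [conjBy_apply_one, hl, conjBy_apply, hθ1]
  have ht : (orbit K (θ : K → ℂ)).card = K.index := by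
    rw [card_orbit_eq_index, le_antisymm hI (le_inertia K (isClassFunction_of_isCharacter (isCharacter_of_isIrr θ.2)))]
  rw [hl] at hdθ
  have hd1 : dθ = 1 := by exact_mod_cast hdθ.symm
  rw [hf, hd1, mul_one, ht] at hdeg
  have : f = e * K.index := by exact_mod_cast hdeg
  rw [this]
  exact Nat.le_mul_of_pos_left _ he0

end CfsgLib.IP
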