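import Cfsg.Agent.Lib.Char.Orth

/-!
# Few generators with scalar commutant
-/

set_option autoImplicit false
set_option linter.style.haveILetI false
set_option linter.unusedSectionVars false

namespace CfsgLib.IP

open Cfsg CfsgLib.Char Module

variable {K : Type*} [Group K] [Finite K] {W : Type*} [AddCommGroup W] [Module ℂ W]
  [FiniteDimensional ℂ W] (σ : Representation ℂ K W) [σ.IsIrreducible] (Cl : Set K)
  (hCl : Subgroup.closure Cl = ⊤)

include hCl

theorem invariant_of_generators (U : Submodule ℂ W) (hU : ∀ c ∈ Cl, ∀ u ∈ U, σ c u ∈ U) (k : K) :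
    ∀ u ∈ U, σ k u ∈ U := by
  have hk : k ∈ Submonoid.closure Cl := by
    rw [← Subgroup.closure_toSubmonoid_of_finite, hCl]; trivial
  induction hk using Submonoid.closure_induction with
  | mem x hx => exact hU x hx
  | one => intro u hu; rw [map_one]; exact hu
  | mul x y _ _ hx hy => intro u hu; rw [map_mul]; exact hx _ (hy u hu)

theorem exists_cyclic {v : W} (hv : v ≠ 0) (n : ℕ) : ∃ F : Finset K, ↑F ⊆ Cl ∧ F.card ≤ n ∧
    ∀ U : Submodule ℂ W, v ∈ U → (∀ c ∈ F, ∀ u ∈ U, σ c u ∈ U) → U = ⊤ ∨ n + 1 ≤ finrank ℂ U := by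
  classical
  induction n with
  | zero =>
    refine ⟨∅, by simp, by simp, fun U hU _ => Or.inr ?_⟩
    rw [zero_add]
    exact Submodule.one_le_finrank_iff.mpr fun e => hv (by rw [e] at hU; simpa using hU)
  | succ n ih =>
    obtain ⟨F, hF, hcard, hU⟩ := ih
    set S : Set (Submodule ℂ W) := {U | v ∈ U ∧ ∀ c ∈ F, ∀ u ∈ U, σ c u ∈ U} with hS
    set U₀ := sInf S with hU₀
    have hv₀ : v ∈ U₀ := Submodule.mem_sInf.mpr fun U hU => hU.1
    have hinv₀ : ∀ c ∈ F, ∀ u ∈ U₀, σ c u ∈ U₀ := fun c hc u hu =>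
      Submodule.mem_sInf.mpr fun U hU => hU.2 c hc u (Submodule.mem_sInf.mp hu U hU)
    by_cases h : ∀ c ∈ Cl, ∀ u ∈ U₀, σ c u ∈ U₀
    · have hK := invariant_of_generators σ Cl hCl U₀ h
      let A : Subrepresentation σ := ⟨U₀, fun k u hu => hK k u hu⟩
      have htop : U₀ = ⊤ := by
        rcases IsSimpleOrder.eq_bot_or_eq_top A with e | e
        · refine absurd (show v ∈ A.toSubmodule from hv₀) ?_
          rw [e]
          exact fun h0 => hv ((Submodule.mem_bot ℂ).mp h0)
        · exact congrArg Subrepresentation.toSubmodule e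
      exact ⟨F, hF, hcard.trans n.le_succ, fun U hvU hinvU => Or.inl
        (top_le_iff.mp (htop ▸ sInf_le (show U ∈ S from ⟨hvU, hinvU⟩)))⟩
    · push_neg at h
      obtain ⟨c, hc, u, hu, hcu⟩ := h
      refine ⟨insert c F, ?_, (Finset.card_insert_le _ _).trans (by omega), fun U hvU hinvU => ?_⟩
      · simp only [Finset.coe_insert]
        exact Set.insert_subset hc hF
      · have hle : U₀ ≤ U := sInf_le ⟨hvU, fun c' hc' => hinvU c' (Finset.mem_insert_of_mem hc')⟩
        have hlt : U₀ < U := lt_of_le_of_ne hle fun e =>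
          hcu (e ▸ hinvU c (Finset.mem_insert_self _ _) u (e ▸ hu))
        rcases hU U₀ hv₀ hinv₀ with e | e
        · exact Or.inl (top_le_iff.mp (e ▸ hle))
        · exact Or.inr (by have := Submodule.finrank_lt_finrank_of_lt hlt; omega)

omit hCl in
/-- The commutant of a set of elements. -/
def commutant (F : Set K) : Submodule ℂ (W →ₗ[ℂ] W) where
  carrier := {P | ∀ c ∈ F, ∀ w, P (σ c w) = σ c (P w)}
  add_mem' := fun hP hQ c hc w => by
    simp only [LinearMap.add_apply, hP c hc, hQ c hc, map_add]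
  zero_mem' := fun c hc w => by simp
  smul_mem' := fun a P hP c hc w => by
    simp only [LinearMap.smul_apply, hP c hc, map_smul]

theorem scalar_of_commutant {P : W →ₗ[ℂ] W} (hP : P ∈ commutant σ Cl) :
    ∃ ω : ℂ, P = ω • (LinearMap.id : W →ₗ[ℂ] W) := by
  have hall : ∀ k : K, ∀ w, P (σ k w) = σ k (P w) := by
    intro k
    have hk : k ∈ Submonoid.closure Cl := by
      rw [← Subgroup.closure_toSubmonoid_of_finite, hCl]; trivial
    induction hk using Submonoid.closure_induction with
    | mem x hx => exact hP x hx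
    | one => intro w; simp
    | mul x y _ _ hx hy =>
      intro w
      rw [map_mul]
      show P (σ x (σ y w)) = σ x (σ y (P w))
      rw [hx, hy]
  let T : Representation.IntertwiningMap σ σ := ⟨P, fun g => LinearMap.ext fun w => hall g w⟩
  obtain ⟨c, hc⟩ :=
    (Representation.IsIrreducible.algebraMap_intertwiningMap_bijective_of_isAlgClosed (ρ := σ)).2 T
  refine ⟨c, ?_⟩
  have h := congrArg Representation.IntertwiningMap.toLinearMap hc
  refine Eq.trans h.symm ?_
  ext w; simp [Algebra.algebraMap_eq_smul_one]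

/-- `2 (dim W - 1)` of the generators have scalar commutant. -/
theorem exists_few_generators (hW : finrank ℂ W ≠ 0) : ∃ F : Finset K, ↑F ⊆ Cl ∧
    F.card ≤ 2 * (finrank ℂ W - 1) ∧
    ∀ P : W →ₗ[ℂ] W, (∀ c ∈ F, ∀ w, P (σ c w) = σ c (P w)) → ∃ ω : ℂ, P = ω • (LinearMap.id : W →ₗ[ℂ] W) := by
  classical
  obtain ⟨v, hv⟩ : ∃ v : W, v ≠ 0 := by
    by_contra h
    push_neg at h
    haveI : Subsingleton W := ⟨fun a b => (h a).trans (h b).symm⟩
    exact hW Module.finrank_zero_of_subsingleton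
  obtain ⟨F₁, hF₁, hcard₁, hcyc⟩ := exists_cyclic σ Cl hCl hv (finrank ℂ W - 1)
  have htop : ∀ U : Submodule ℂ W, v ∈ U → (∀ c ∈ F₁, ∀ u ∈ U, σ c u ∈ U) → U = ⊤ := by
    intro U hvU hU
    rcases hcyc U hvU hU with e | e
    · exact e
    · exact Submodule.eq_top_of_finrank_eq (le_antisymm U.finrank_le (by omega))
  have hstep : ∀ n, ∃ F : Finset K, F₁ ⊆ F ∧ ↑F ⊆ Cl ∧ F.card ≤ F₁.card + n ∧
      (finrank ℂ (commutant σ (F : Set K)) ≤ finrank ℂ W - n ∨
        ∀ P ∈ commutant σ (F : Set K), ∃ ω : ℂ, P = ω • (LinearMap.id : W →ₗ[ℂ] W)) := by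
    intro n
    induction n with
    | zero =>
      refine ⟨F₁, subset_rfl, hF₁, le_rfl, Or.inl ?_⟩
      let ev : commutant σ (F₁ : Set K) →ₗ[ℂ] W :=
        { toFun := fun P => (P : W →ₗ[ℂ] W) v
          map_add' := fun _ _ => rfl
          map_smul' := fun _ _ => rfl }
      refine LinearMap.finrank_le_finrank_of_injective (f := ev)
        ((injective_iff_map_eq_zero ev).mpr fun P hP => ?_)
      have hker : LinearMap.ker (P : W →ₗ[ℂ] W) = ⊤ := htop _ hP fun c hc u hu => by
        rw [LinearMap.mem_ker] at hu ⊢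
        rw [P.2 c hc, hu, map_zero]
      exact Subtype.ext (LinearMap.ker_eq_top.mp hker)
    | succ n ih =>
      obtain ⟨F, h1, h2, h3, h4⟩ := ih
      rcases h4 with h4 | h4
      swap
      · exact ⟨F, h1, h2, h3.trans (by omega), Or.inr h4⟩
      by_cases h : ∀ P ∈ commutant σ (F : Set K), ∀ c ∈ Cl, ∀ w, P (σ c w) = σ c (P w)
      · exact ⟨F, h1, h2, h3.trans (by omega),
          Or.inr fun P hP => scalar_of_commutant σ Cl hCl (h P hP)⟩
      push_neg at h
      obtain ⟨P, hP, c, hc, w, hw⟩ := h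
      refine ⟨insert c F, h1.trans (Finset.subset_insert _ _), ?_,
        (Finset.card_insert_le _ _).trans (by omega), Or.inl ?_⟩
      · rw [Finset.coe_insert]; exact Set.insert_subset hc h2
      · have hlt : commutant σ ((insert c F : Finset K) : Set K) < commutant σ (F : Set K) :=
          lt_of_le_of_ne (fun Q hQ d hd => hQ d (Finset.mem_insert_of_mem hd)) fun e => hw
            ((e ▸ hP : P ∈ commutant σ ((insert c F : Finset K) : Set K)) c (Finset.mem_insert_self _ _) w)
        have := Submodule.finrank_lt_finrank_of_lt hlt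
        omega
  obtain ⟨F, h1, h2, h3, h4⟩ := hstep (finrank ℂ W - 1)
  refine ⟨F, h2, h3.trans (by omega), fun P hP => ?_⟩
  rcases h4 with h4 | h4
  swap
  · exact h4 P hP
  have hid : (LinearMap.id : W →ₗ[ℂ] W) ∈ commutant σ (F : Set K) := fun c _ w => rfl
  have hne : (⟨LinearMap.id, hid⟩ : commutant σ (F : Set K)) ≠ 0 := fun e =>
    hv (LinearMap.congr_fun (congrArg Subtype.val e) v)
  have h1' : finrank ℂ (commutant σ (F : Set K)) = 1 := by
    haveI : Nontrivial (commutant σ (F : Set K)) := nontrivial_of_ne _ _ hne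
    have := Module.finrank_pos (R := ℂ) (M := commutant σ (F : Set K))
    omega
  obtain ⟨ω, hω⟩ := (finrank_eq_one_iff_of_nonzero' _ hne).mp h1' ⟨P, hP⟩
  exact ⟨ω, (congrArg Subtype.val hω).symm⟩

end CfsgLib.IP
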