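import Cfsg.Agent.Lib.IsaacsPassman.Rep
import Cfsg.Agent.Lib.IsaacsPassman.Generators
import Cfsg.Agent.Lib.Char.AbelianQuotient
import Cfsg.Agent.Lib.Char.Table

/-!
# Bounding a monolithic quotient all of whose characters are highly ramified
-/

set_option autoImplicit false
set_option linter.style.haveILetI false
set_option linter.unusedSectionVars false

namespace CfsgLib.IP

open Cfsg CfsgLib.Char
open scoped ComplexConjugate CfsgLib.Char commutatorElement

variable {S : Type*} [Group S] [Fintype S] (K : Subgroup S) [K.Normal] [Fintype K] {b : ℕ}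

/-- Characters trivial on a subgroup containing the commutators are linear. -/
theorem degree_one_of_kernel (hab : ∀ x y : S, x * y * x⁻¹ * y⁻¹ ∈ K) {ψ : S → ℂ}
    (hψ : IsIrrCharacter S ψ) (hker : ∀ k : K, ψ k = ψ 1) : ψ 1 = 1 := by
  classical
  haveI : Finite (LinTriv K) := by
    haveI : Finite (S →* ℂˣ) := Finite.of_equiv _ (linearEquiv (G := S))
    infer_instance
  haveI : Fintype (LinTriv K) := Fintype.ofFinite _
  obtain ⟨-, hsum⟩ := sum_linTriv K hab
  have h : classInner (indFun K (fun _ : K => (1 : ℂ))) ψ = conj (ψ 1) := by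
    rw [frobenius_reciprocity K _ (isClassFunction_of_isCharacter (isCharacter_of_isIrr hψ))]
    have hK : (Nat.card K : ℂ) ≠ 0 := Nat.cast_ne_zero.mpr Nat.card_pos.ne'
    simp [classInner, hker, hK]
  rw [hsum, classInner_sum_left] at h
  by_contra hne
  rw [Finset.sum_eq_zero (fun β _ => classInner_irr_ne (isIrrCharacter_monoidHom β.1) hψ ?_)] at h
  · exact irr_degree_ne_zero hψ ((map_eq_zero _).mp h.symm)
  · intro e
    exact hne (by rw [← e]; simp)

/-- A non-identity element of `K` with a class of size at most `b`. -/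
theorem exists_small_class (hK : K ≠ ⊥) (hab : ∀ x y : S, x * y * x⁻¹ * y⁻¹ ∈ K)
    (hb : ∀ (ξ : IrrCharacter S) (d : ℕ), (ξ : S → ℂ) 1 = d → d ≤ b)
    (hbad : ∀ (ψ : IrrCharacter S) (f : ℕ), (ψ : S → ℂ) 1 = f → 2 ≤ f → (f : ℝ) ≤ resNorm K ψ) :
    ∃ h : S, h ∈ K ∧ h ≠ 1 ∧ (Subgroup.centralizer ({h} : Set S)).index ≤ b := by
  classical
  by_contra hcon
  push_neg at hcon
  choose d hd0 hd using fun χ : IrrCharacter S => exists_nat_degree_irr χ.2
  have hcol : ∑ h : K, (Nat.card (Subgroup.centralizer ({(h : S)} : Set S)) : ℝ) =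
      (Nat.card K : ℝ) * ∑ χ : IrrCharacter S, resNorm K χ := by
    have h1 : ∀ h : K, (Nat.card (Subgroup.centralizer ({(h : S)} : Set S)) : ℝ) =
        ∑ χ : IrrCharacter S, ‖(χ : S → ℂ) h‖ ^ 2 := fun h => by
      have := column_orthogonality (h : S) (h : S)
      rw [if_pos (IsConj.refl _)] at this
      simp only [Complex.mul_conj'] at this
      exact_mod_cast this.symm
    rw [Finset.sum_congr rfl fun h _ => h1 h, Finset.sum_comm, Finset.mul_sum]
    refine Finset.sum_congr rfl fun χ _ => ?_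
    rw [resNorm, mul_inv_cancel_left₀ (Nat.cast_ne_zero.mpr Nat.card_pos.ne')]
  have hlin : (K.index : ℕ) ≤ (Finset.univ.filter fun χ : IrrCharacter S => d χ = 1).card := by
    haveI : Finite (S →* ℂˣ) := Finite.of_equiv _ (linearEquiv (G := S))
    haveI : Fintype (LinTriv K) := Fintype.ofFinite _
    obtain ⟨hcard, -⟩ := sum_linTriv K hab
    rw [← hcard, ← Finset.card_univ]
    refine Finset.card_le_card_of_injOn
      (fun β => (⟨fun g => (β.1 g : ℂ), isIrrCharacter_monoidHom β.1⟩ : IrrCharacter S)) ?_ ?_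
    · intro β _
      simp only [Finset.coe_filter, Finset.mem_univ, true_and, Set.mem_setOf_eq]
      have := hd (⟨fun g => (β.1 g : ℂ), isIrrCharacter_monoidHom β.1⟩ : IrrCharacter S)
      simp only [map_one, Units.val_one] at this
      exact_mod_cast this.symm
    · intro β _ γ _ e
      exact Subtype.ext (MonoidHom.ext fun g => Units.ext (congrFun (congrArg Subtype.val e) g))
  have hR : ∀ χ : IrrCharacter S,
      ((d χ * d χ + (b - 1) * (if d χ = 1 then 1 else 0) : ℕ) : ℝ) ≤ (b : ℝ) * resNorm K χ := by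
    intro χ
    have hdb := hb χ _ (hd χ)
    rcases eq_or_ne (d χ) 1 with e | e
    · have h1 : resNorm K χ = 1 := resNorm_of_irr K (isIrrCharacter_of_degree_one
        (isCharacter_restrict K (isCharacter_of_isIrr χ.2))
        (by rw [Subgroup.coe_one, hd χ, e, Nat.cast_one]))
      rw [h1, mul_one, if_pos e, e]
      exact_mod_cast (by omega : 1 * 1 + (b - 1) * 1 ≤ b)
    · rw [if_neg e, mul_zero, add_zero]
      calc ((d χ * d χ : ℕ) : ℝ) ≤ ((b * d χ : ℕ) : ℝ) := by exact_mod_cast Nat.mul_le_mul_right _ hdb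
        _ = (b : ℝ) * (d χ : ℝ) := by push_cast; ring
        _ ≤ _ := mul_le_mul_of_nonneg_left (hbad χ _ (hd χ) (by have := hd0 χ; omega)) (Nat.cast_nonneg _)
  have hsq : ∑ χ : IrrCharacter S, d χ * d χ = Nat.card S := by
    have := sum_sq_degree (G := S)
    simp only [hd, sq] at this
    exact_mod_cast this
  have hC : ∀ h : K, h ≠ 1 → (b + 1) * Nat.card (Subgroup.centralizer ({(h : S)} : Set S)) ≤ Nat.card S := by
    intro h hh
    have := hcon h h.2 (fun e => hh (Subtype.ext e))
    rw [← (Subgroup.centralizer ({(h : S)} : Set S)).card_mul_index, mul_comm (b + 1)]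
    exact Nat.mul_le_mul_left _ this
  have hlow : ((Nat.card K * (Nat.card S + (b - 1) * K.index) : ℕ) : ℝ) ≤
      ((b * ∑ h : K, Nat.card (Subgroup.centralizer ({(h : S)} : Set S)) : ℕ) : ℝ) := by
    push_cast
    rw [hcol, mul_left_comm (b : ℝ), Finset.mul_sum _ _ (b : ℝ)]
    refine mul_le_mul_of_nonneg_left ?_ (Nat.cast_nonneg _)
    refine le_trans ?_ (Finset.sum_le_sum fun χ _ => hR χ)
    have : Nat.card S + (b - 1) * K.index ≤
        ∑ χ : IrrCharacter S, (d χ * d χ + (b - 1) * (if d χ = 1 then 1 else 0)) := by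
      rw [Finset.sum_add_distrib, hsq, ← Finset.mul_sum, Finset.sum_boole, Nat.cast_id]
      exact Nat.add_le_add_left (Nat.mul_le_mul_left _ hlin) _
    exact_mod_cast this
  have hlow' : Nat.card K * (Nat.card S + (b - 1) * K.index) ≤
      b * ∑ h : K, Nat.card (Subgroup.centralizer ({(h : S)} : Set S)) := by exact_mod_cast hlow
  have hKS := K.card_mul_index
  have hK2 : 2 ≤ Nat.card K := by
    have := (Subgroup.one_lt_card_iff_ne_bot K).mpr hK
    omega
  have hup : (b + 1) * ∑ h : K, Nat.card (Subgroup.centralizer ({(h : S)} : Set S)) ≤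
      (b + 1) * Nat.card S + (Nat.card K - 1) * Nat.card S := by
    rw [Finset.mul_sum, ← Finset.add_sum_erase _ _ (Finset.mem_univ (1 : K))]
    refine Nat.add_le_add ?_ ?_
    · exact Nat.mul_le_mul_left _ (Subgroup.card_le_card_group _)
    · refine (Finset.sum_le_card_nsmul _ _ _ fun h hh => hC h (Finset.ne_of_mem_erase hh)).trans
        (le_of_eq ?_)
      rw [Finset.card_erase_of_mem (Finset.mem_univ _), Finset.card_univ, smul_eq_mul,
        Nat.card_eq_fintype_card (α := K)]
  have hb1 : 1 ≤ b := by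
    obtain ⟨χ⟩ : Nonempty (IrrCharacter S) := ⟨⟨fun _ => 1, isIrrCharacter_one⟩⟩
    exact le_trans (hd0 χ) (hb χ _ (hd χ))
  have hS0 : 0 < Nat.card S := Nat.card_pos
  obtain ⟨b, rfl⟩ : ∃ c, b = c + 1 := ⟨b - 1, by omega⟩
  obtain ⟨k, hk⟩ : ∃ k, Nat.card K = k + 2 := ⟨Nat.card K - 2, by omega⟩
  rw [hk] at hlow' hup hKS
  simp only [Nat.add_sub_cancel, show k + 2 - 1 = k + 1 by omega] at hlow' hup
  rw [← hKS] at hlow' hup hS0
  nlinarith [Nat.mul_le_mul_left (b + 2) hlow', Nat.mul_le_mul_left (b + 1) hup]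

/-- **The bad case**: the quotient is small. -/
theorem bad_bound (hK : K ≠ ⊥) (hmin : ∀ M : Subgroup S, M.Normal → M ≠ ⊥ → K ≤ M)
    (hperf : ⁅K, K⁆ = K) (hab : ∀ x y : S, x * y * x⁻¹ * y⁻¹ ∈ K)
    (hb : ∀ (ξ : IrrCharacter S) (d : ℕ), (ξ : S → ℂ) 1 = d → d ≤ b)
    (hbad : ∀ (ψ : IrrCharacter S) (f : ℕ), (ψ : S → ℂ) 1 = f → 2 ≤ f → (f : ℝ) ≤ resNorm K ψ) :
    Nat.card S ≤ b ^ (b / 2 + 1) := by
  classical
  have hnab : ¬ ∀ a ∈ K, ∀ c ∈ K, a * c = c * a := fun h => hK (by
    refine eq_bot_iff.mpr ?_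
    rw [← hperf, Subgroup.commutator_le]
    intro a ha c hc
    exact Subgroup.mem_bot.mpr (commutatorElement_eq_one_iff_mul_comm.mpr (h a ha c hc)))
  obtain ⟨h, hhK, hh1, hclass⟩ := exists_small_class K hK hab hb hbad
  -- a nonlinear character
  obtain ⟨ψ, f, hf, hf2⟩ : ∃ (ψ : IrrCharacter S) (f : ℕ), (ψ : S → ℂ) 1 = f ∧ 2 ≤ f := by
    by_contra hlin
    push_neg at hlin
    refine hnab fun a _ c _ => commutatorElement_eq_one_iff_mul_comm.mp
      (eq_one_of_forall_irr fun χ => ?_)
    obtain ⟨d, hd0, hd⟩ := exists_nat_degree_irr χ.2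
    have hd1 : d = 1 := by have := hlin χ d hd; omega
    have hl : (χ : S → ℂ) 1 = 1 := by rw [hd, hd1, Nat.cast_one]
    rw [hl, ← linearHom_apply (isCharacter_of_isIrr χ.2) hl,
      MonoidHom.mem_ker.mp (Abelianization.commutator_subset_ker (linearHom (isCharacter_of_isIrr χ.2) hl)
        (Subgroup.commutator_mem_commutator (Subgroup.mem_top a) (Subgroup.mem_top c))), Units.val_one]
  obtain ⟨θ, e, dθ, he, he0, hdθ, ht0, hnorm, hdeg⟩ := clifford_norm K ψ.2
  set t := (orbit K (θ : K → ℂ)).card with htdef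
  have hcon : classInner (fun n : K => (ψ : S → ℂ) n) (θ : K → ℂ) ≠ 0 := by
    rw [he]; exact Nat.cast_ne_zero.mpr he0.ne'
  have hexp := clifford K ψ.2 θ.2 hcon
  -- the kernel of `ψ` meets `K` trivially
  have hfaith : ∀ x : K, (ψ : S → ℂ) x = (ψ : S → ℂ) 1 → x = 1 := by
    obtain ⟨L, hL, hmem, -⟩ := exists_kernel (isCharacter_of_isIrr ψ.2)
    intro x hx
    by_contra hne
    have hLb : L ≠ ⊥ := fun e0 => hne (Subtype.ext (by
      have := (hmem x).mpr hx
      rwa [e0, Subgroup.mem_bot] at this))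
    have h1 := degree_one_of_kernel K hab ψ.2 fun k => (hmem k).mp (hmin L hL hLb k.2)
    rw [hf, Nat.cast_eq_one] at h1
    omega
  have hdθ2 : 2 ≤ dθ := by
    by_contra hlt
    have hdpos : dθ ≠ 0 := fun e0 => irr_degree_ne_zero θ.2 (by rw [hdθ, e0, Nat.cast_zero])
    have hd1 : dθ = 1 := by omega
    refine hnab fun a ha c hc => congrArg Subtype.val (commutatorElement_eq_one_iff_mul_comm.mp
      (hfaith ⁅(⟨a, ha⟩ : K), ⟨c, hc⟩⁆ ?_))
    have key : ∀ φ ∈ orbit K (θ : K → ℂ), φ ⁅(⟨a, ha⟩ : K), ⟨c, hc⟩⁆ = φ 1 := by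
      intro φ hφ
      obtain ⟨g, rfl⟩ := (mem_orbit K).mp hφ
      have hl : conjBy K (θ : K → ℂ) g 1 = 1 := by
        rw [conjBy_apply_one, hdθ, hd1, Nat.cast_one]
      have hc' := isCharacter_of_isIrr (isIrrCharacter_conjBy K θ.2 g)
      rw [hl, ← linearHom_apply hc' hl, MonoidHom.mem_ker.mp (Abelianization.commutator_subset_ker
        (linearHom hc' hl) (Subgroup.commutator_mem_commutator (Subgroup.mem_top _) (Subgroup.mem_top _))),
        Units.val_one]
    have h1 := congrFun hexp ⁅(⟨a, ha⟩ : K), ⟨c, hc⟩⁆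
    have h2 := congrFun hexp 1
    simp only [Pi.smul_apply, Finset.sum_apply, OneMemClass.coe_one] at h1 h2
    rw [h1, h2, Finset.sum_congr rfl key]
  have hfe : f = e * (t * dθ) := by
    rw [hf] at hdeg
    exact_mod_cast hdeg
  have hθe : dθ ≤ e := by
    have h1 := hbad ψ f hf hf2
    rw [hnorm, Nat.cast_le, hfe] at h1
    have h2 : dθ * (e * t) ≤ e * (e * t) := by linarith
    exact Nat.le_of_mul_le_mul_right h2 (Nat.mul_pos he0 ht0)
  have hsize : t * (dθ * dθ) ≤ b := by
    have := hb ψ f hf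
    rw [hfe] at this
    calc t * (dθ * dθ) = dθ * (t * dθ) := by ring
      _ ≤ e * (t * dθ) := Nat.mul_le_mul_right _ hθe
      _ ≤ b := this
  -- generators
  obtain ⟨n, σ, hσ, hchar⟩ := θ.2
  have hn : n = dθ := by
    have := hdθ
    rw [← hchar, Representation.char_one, Module.finrank_fin_fun] at this
    exact_mod_cast this
  set Cl : Set K := {k | IsConj h (k : S)} with hCldef
  have hgen : Subgroup.closure Cl = ⊤ := by
    refine top_le_iff.mp fun k _ => ?_
    have h1 : (k : S) ∈ (Subgroup.closure Cl).map K.subtype := by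
      rw [MonoidHom.map_closure]
      have h2 : K ≤ Subgroup.normalClosure {h} := hmin _ inferInstance fun e0 => hh1 (by
        have := Subgroup.subset_normalClosure (s := ({h} : Set S)) rfl
        rw [e0] at this
        simpa using this)
      refine Subgroup.closure_mono ?_ (h2 k.2)
      intro x hx
      obtain ⟨y, hy, hyx⟩ := Group.mem_conjugatesOfSet_iff.mp hx
      rw [Set.mem_singleton_iff] at hy
      subst hy
      obtain ⟨c, hc⟩ := isConj_iff.mp hyx
      exact ⟨⟨x, hc ▸ Subgroup.Normal.conj_mem inferInstance y hhK c⟩, hyx, rfl⟩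
    obtain ⟨k', hk', hkk⟩ := h1
    rwa [Subtype.ext hkk] at hk'
  obtain ⟨F, hFsub, hFcard, hFscalar⟩ := exists_few_generators σ Cl hgen (by
    rw [Module.finrank_fin_fun, hn]; omega)
  rw [Module.finrank_fin_fun, hn] at hFcard
  choose! s hs using fun φ : K → ℂ => fun hφ : φ ∈ orbit K (θ : K → ℂ) => (mem_orbit K).mp hφ
  set F' : Finset S := (orbit K (θ : K → ℂ)).biUnion
    (fun φ => F.image fun c : K => (s φ)⁻¹ * (c : S) * s φ) with hF'
  set I := inertia K (θ : K → ℂ) with hI
  have hIconj : ∀ x a : S, a ∈ I → x * a * x⁻¹ ∈ I := by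
    intro x a ha
    have hle := le_inertia K (isClassFunction_of_isCharacter (isCharacter_of_isIrr θ.2)) (hab x a)
    have := I.mul_mem hle ha
    rwa [inv_mul_cancel_right] at this
  have hscal : ∀ a ∈ I, (∀ c ∈ F, a * (c : S) = (c : S) * a) → ∀ k : K,
      (θ : K → ℂ) ⟨a * k * a⁻¹ * (k : S)⁻¹, K.mul_mem (Subgroup.Normal.conj_mem inferInstance _ k.2 a) (K.inv_mem k.2)⟩ =
        (θ : K → ℂ) 1 := by
    intro a ha hac k
    set σ' : Representation ℂ K (Fin n → ℂ) := σ.comp (MulAut.conjNormal a : MulAut K).toMonoidHom with hσ'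
    have hchar' : σ'.character = σ.character := by
      rw [hchar]
      have h1 := (mem_inertia K).mp ha
      rw [conjBy_eq_comp] at h1
      refine Eq.trans ?_ h1
      funext x
      rw [← hchar]
      rfl
    have hfin : Module.finrank ℂ (Representation.IntertwiningMap σ σ') = 1 := by
      have := classInner_character_eq_finrank σ σ'
      rw [hchar', hchar, classInner_irr_self θ.2] at this
      exact_mod_cast this.symm
    haveI : Nontrivial (Representation.IntertwiningMap σ σ') :=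
      Module.nontrivial_of_finrank_eq_succ hfin
    obtain ⟨T, hT⟩ := exists_ne (0 : Representation.IntertwiningMap σ σ')
    have hTw : ∀ g w, T.toLinearMap (σ g w) = σ ((MulAut.conjNormal a : MulAut K) g) (T.toLinearMap w) :=
      fun g w => LinearMap.congr_fun (T.isIntertwining' g) w
    obtain ⟨ω, hω⟩ := hFscalar T.toLinearMap fun c hc w => by
      rw [hTw]
      congr 2
      exact Subtype.ext (by rw [MulAut.conjNormal_apply, hac c hc, mul_inv_cancel_right])
    have hω0 : ω ≠ 0 := fun e0 => hT (by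
      ext1
      rw [hω, e0, zero_smul]
      rfl)
    have heq : σ ((MulAut.conjNormal a : MulAut K) k) = σ k := by
      refine LinearMap.ext fun w => smul_right_injective (Fin n → ℂ) hω0 ?_
      have := hTw k w
      rw [hω] at this
      simp only [LinearMap.smul_apply, LinearMap.id_apply, map_smul] at this
      exact this.symm
    rw [← hchar]
    show LinearMap.trace ℂ _ (σ _) = LinearMap.trace ℂ _ (σ 1)
    have : (⟨a * k * a⁻¹ * (k : S)⁻¹, K.mul_mem (Subgroup.Normal.conj_mem inferInstance _ k.2 a) (K.inv_mem k.2)⟩ : K) =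
        (MulAut.conjNormal a : MulAut K) k * k⁻¹ := Subtype.ext (by simp [MulAut.conjNormal_apply])
    rw [this, map_mul, heq, ← map_mul, mul_inv_cancel]
  have hone : ∀ a ∈ I, (∀ x ∈ F', a * x = x * a) → a = 1 := by
    intro a ha hax
    have hcent : ∀ k : K, a * k = (k : S) * a := by
      intro k
      have hx : a * k * a⁻¹ * (k : S)⁻¹ ∈ K :=
        K.mul_mem (Subgroup.Normal.conj_mem inferInstance _ k.2 a) (K.inv_mem k.2)
      have h1 : (⟨_, hx⟩ : K) = 1 := by
        refine hfaith _ ?_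
        have key : ∀ φ ∈ orbit K (θ : K → ℂ), φ ⟨_, hx⟩ = φ 1 := by
          intro φ hφ
          have hsφ := hs φ hφ
          have h2 := hscal (s φ * a * (s φ)⁻¹) (hIconj _ _ ha) (fun c hc => by
            have := hax ((s φ)⁻¹ * (c : S) * s φ)
              (Finset.mem_biUnion.mpr ⟨φ, hφ, Finset.mem_image_of_mem _ hc⟩)
            have h3 := congrArg (fun z => s φ * z * (s φ)⁻¹) this
            simpa only [mul_assoc, mul_inv_cancel_left, mul_inv_cancel, mul_one] using h3)
            ⟨s φ * k * (s φ)⁻¹, Subgroup.Normal.conj_mem inferInstance _ k.2 _⟩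
          have h4 : conjBy K (θ : K → ℂ) (s φ) ⟨_, hx⟩ = conjBy K (θ : K → ℂ) (s φ) 1 := by
            rw [conjBy_apply_one, ← h2, conjBy_apply]
            refine congrArg (θ : K → ℂ) (Subtype.ext ?_)
            show s φ * (a * k * a⁻¹ * (k : S)⁻¹) * (s φ)⁻¹ =
              s φ * a * (s φ)⁻¹ * (s φ * k * (s φ)⁻¹) * (s φ * a * (s φ)⁻¹)⁻¹ * (s φ * k * (s φ)⁻¹)⁻¹
            group
          rwa [hsφ] at h4
        have h2 := congrFun hexp ⟨_, hx⟩
        have h3 := congrFun hexp 1
        simp only [Pi.smul_apply, Finset.sum_apply, OneMemClass.coe_one] at h2 h3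
        rw [h2, h3, Finset.sum_congr rfl key]
      have h2 := congrArg Subtype.val h1
      rwa [Subgroup.coe_one, mul_inv_eq_one, mul_inv_eq_iff_eq_mul] at h2
    by_contra ha1
    refine hnab fun x hx c hc => ?_
    have hC : K ≤ Subgroup.centralizer (K : Set S) := hmin _ inferInstance fun e0 => ha1 (by
      have : a ∈ Subgroup.centralizer (K : Set S) :=
        Subgroup.mem_centralizer_iff.mpr fun y hy => (hcent ⟨y, hy⟩).symm
      rwa [e0, Subgroup.mem_bot] at this)
    exact (Subgroup.mem_centralizer_iff.mp (hC hx) c hc).symm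
  -- counting
  set J : Subgroup S := ⨅ x : F', Subgroup.centralizer ({(x : S)} : Set S) with hJ
  have hbot : I ⊓ J = ⊥ := eq_bot_iff.mpr fun a ha => Subgroup.mem_bot.mpr (hone a ha.1 fun x hx =>
    Subgroup.mem_centralizer_singleton_iff.mp (Subgroup.mem_iInf.mp ha.2 ⟨x, hx⟩))
  have hidxF : ∀ x : F', (Subgroup.centralizer ({(x : S)} : Set S)).index ≤ b := by
    intro x
    obtain ⟨φ, -, hx⟩ := Finset.mem_biUnion.mp x.2
    obtain ⟨c, hc, hcx⟩ := Finset.mem_image.mp hx
    obtain ⟨u, hu⟩ := isConj_iff.mp (show IsConj h (c : S) from hFsub hc)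
    set v := (s φ)⁻¹ * u with hv
    have hxv : (x : S) = v * h * v⁻¹ := by
      rw [← hcx, ← hu, hv]; group
    have hle : (Subgroup.centralizer ({h} : Set S)).map (MulAut.conj v).toMonoidHom ≤
        Subgroup.centralizer ({(x : S)} : Set S) := by
      rintro _ ⟨z, hz, rfl⟩
      rw [Subgroup.mem_centralizer_singleton_iff]
      have hz' := Subgroup.mem_centralizer_singleton_iff.mp hz
      show v * z * v⁻¹ * (x : S) = (x : S) * (v * z * v⁻¹)
      rw [hxv]
      calc v * z * v⁻¹ * (v * h * v⁻¹) = v * (z * h) * v⁻¹ := by group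
        _ = v * h * v⁻¹ * (v * z * v⁻¹) := by rw [hz']; group
    refine le_trans (Nat.le_of_dvd ?_ (Subgroup.index_dvd_of_le hle)) ?_
    · exact Nat.pos_of_ne_zero Subgroup.index_ne_zero_of_finite
    · rw [Subgroup.index_map_of_bijective (MulAut.conj v).bijective]; exact hclass
  have hcardF' : F'.card ≤ t * (2 * (dθ - 1)) :=
    Finset.card_biUnion_le_card_mul _ _ _ fun φ _ => Finset.card_image_le.trans hFcard
  have hb1 : 1 ≤ b := le_trans (Nat.mul_pos ht0 (Nat.mul_pos (by omega) (by omega))) hsize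
  have htb : t ≤ b := le_trans (Nat.le_mul_of_pos_right _ (Nat.mul_pos (by omega) (by omega))) hsize
  have hexp' : t * (2 * (dθ - 1)) ≤ b / 2 := by
    rw [Nat.le_div_iff_mul_le two_pos]
    refine le_trans ?_ hsize
    rw [mul_assoc]
    refine Nat.mul_le_mul_left _ ?_
    obtain ⟨m, rfl⟩ : ∃ m, dθ = m + 2 := ⟨dθ - 2, by omega⟩
    simp only [show m + 2 - 1 = m + 1 by omega]
    nlinarith
  calc Nat.card S = (I ⊓ J).index := by rw [hbot, Subgroup.index_bot]
    _ ≤ I.index * J.index := Subgroup.index_inf_le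
    _ ≤ b * b ^ (b / 2) := by
      refine Nat.mul_le_mul ?_ ?_
      · rw [← card_orbit_eq_index]; exact htb
      · refine (Subgroup.index_iInf_le _).trans ?_
        calc ∏ x : F', (Subgroup.centralizer ({(x : S)} : Set S)).index ≤ ∏ _x : F', b :=
              Finset.prod_le_prod' fun x _ => hidxF x
          _ = b ^ F'.card := by rw [Finset.prod_const, Finset.card_univ, Fintype.card_coe]
          _ ≤ b ^ (b / 2) := Nat.pow_le_pow_right hb1 (hcardF'.trans hexp')
    _ = b ^ (b / 2 + 1) := (pow_succ' _ _).symm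

end CfsgLib.IP
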