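import Cfsg.Agent.Lib.PrimeDegrees.Simple

/-!
# A nonabelian simple group has an irreducible character of degree at least five
-/

set_option autoImplicit false
set_option linter.style.haveILetI false
set_option linter.unusedSectionVars false

namespace CfsgLib.IP

open Cfsg CfsgLib.Char CfsgLib.PrimeDegrees
open scoped ComplexConjugate CfsgLib.Char

theorem exists_five_le_degree {T : Type*} [Group T] [Finite T] [IsSimpleGroup T]
    (hna : ∃ a b : T, a * b ≠ b * a) :
    ∃ (χ : IrrCharacter T) (d : ℕ), (χ : T → ℂ) 1 = d ∧ 5 ≤ d := by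
  classical
  haveI := Fintype.ofFinite T
  by_contra hcon
  push_neg at hcon
  choose d hd0 hd using fun χ : IrrCharacter T => exists_nat_degree_irr χ.2
  set one : IrrCharacter T := ⟨fun _ => 1, isIrrCharacter_one⟩ with hone
  have hd1 : d one = 1 := by
    have := hd one
    simp only [hone] at this
    exact_mod_cast this.symm
  have hne : ∀ χ : IrrCharacter T, χ ≠ one → d χ = 3 ∨ d χ = 4 := by
    intro χ hχ
    have h5 := hcon χ _ (hd χ)
    have h2 : d χ ≠ 2 := fun e => not_degree_two hna χ.2 (by rw [hd χ, e])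
    have h1 : d χ ≠ 1 := by
      intro e
      have hl : (χ : T → ℂ) 1 = 1 := by rw [hd χ, e, Nat.cast_one]
      rcases (linearHom (isCharacter_of_isIrr χ.2) hl).normal_ker.eq_bot_or_eq_top with h | h
      · obtain ⟨a, b, hab⟩ := hna
        exact hab ((MonoidHom.ker_eq_bot_iff _).mp h (by rw [map_mul, map_mul, mul_comm]))
      · exact hχ (Subtype.ext (funext fun g => by
          rw [← linearHom_apply (isCharacter_of_isIrr χ.2) hl,
            MonoidHom.mem_ker.mp (h ▸ Subgroup.mem_top g)]
          rfl))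
    have := hd0 χ
    omega
  obtain ⟨h, hh1, hcop⟩ : ∃ h : T, h ≠ 1 ∧ ∀ χ : IrrCharacter T, d χ = 4 →
      (Subgroup.centralizer ({h} : Set T)).index.Coprime 4 := by
    by_cases h4 : ∃ χ : IrrCharacter T, d χ = 4
    · obtain ⟨χ, hχ⟩ := h4
      haveI : Fact (Nat.Prime 2) := ⟨Nat.prime_two⟩
      obtain ⟨d', hd', -, hdvd⟩ := exists_degree_dvd_card χ.2
      have : d' = 4 := by
        rw [hd χ, hχ] at hd'
        exact_mod_cast hd'.symm
      rw [this] at hdvd
      let P : Sylow 2 T := default
      have hP1 : (P : Subgroup T) ≠ ⊥ := by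
        intro e
        have := P.dvd_card_of_dvd_card (p := 2) (dvd_trans (show 2 ∣ 4 by norm_num) hdvd)
        rw [e, Subgroup.card_bot] at this
        exact absurd this (by norm_num)
      haveI : Nontrivial (P : Subgroup T) := (Subgroup.nontrivial_iff_ne_bot _).mpr hP1
      haveI := P.isPGroup'.center_nontrivial
      obtain ⟨z, hz⟩ := exists_ne (1 : Subgroup.center (P : Subgroup T))
      refine ⟨((z : (P : Subgroup T)) : T),
        fun e => hz (Subtype.ext (Subtype.ext e)), fun _ _ => ?_⟩
      have hle : (P : Subgroup T) ≤ Subgroup.centralizer {((z : (P : Subgroup T)) : T)} := fun x hx =>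
        Subgroup.mem_centralizer_singleton_iff.mpr
          (congrArg Subtype.val (Subgroup.mem_center_iff.mp z.2 ⟨x, hx⟩))
      have hodd : ¬ 2 ∣ (Subgroup.centralizer {((z : (P : Subgroup T)) : T)}).index := fun e =>
        P.not_dvd_index (e.trans (Subgroup.index_dvd_of_le hle))
      exact Nat.Coprime.pow_right 2 ((Nat.prime_two.coprime_iff_not_dvd.mpr hodd).symm)
    · obtain ⟨a, b, hab⟩ := hna
      exact ⟨a, fun e => hab (by rw [e, one_mul, mul_one]), fun χ hχ => absurd ⟨χ, hχ⟩ h4⟩
  have h0 := sum_degree_mul_irr h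
  rw [if_neg hh1] at h0
  rw [← Finset.add_sum_erase _ _ (Finset.mem_univ one)] at h0
  have h3 : ∑ χ ∈ Finset.univ.erase one, (χ : T → ℂ) 1 * (χ : T → ℂ) h =
      3 * ∑ χ ∈ Finset.univ.erase one, (if d χ = 3 then (χ : T → ℂ) h else 0) := by
    rw [Finset.mul_sum]
    refine Finset.sum_congr rfl fun χ hχ => ?_
    rcases hne χ (Finset.ne_of_mem_erase hχ) with e | e
    · rw [if_pos e, hd χ, e]; norm_num
    · rw [if_neg (by omega), vanish_of_coprime hna χ.2 (hd χ) (by omega) hh1
        (by rw [e]; exact (hcop χ e).symm)]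
      ring
  rw [h3] at h0
  simp only [hone, one_mul] at h0
  have hint : IsIntegral ℤ (∑ χ ∈ Finset.univ.erase one,
      (if d χ = 3 then (χ : T → ℂ) h else 0)) := by
    refine IsIntegral.sum _ fun χ _ => ?_
    split_ifs
    · exact isIntegral_value (isCharacter_of_isIrr χ.2) h
    · exact isIntegral_zero
  have hv : (∑ χ ∈ Finset.univ.erase one, (if d χ = 3 then (χ : T → ℂ) h else 0)) = -((1 : ℕ) : ℂ) / (3 : ℕ) := by
    rw [eq_div_iff (by norm_num)]
    push_cast
    linear_combination h0
  rw [hv, neg_div] at hint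
  have := dvd_of_isIntegral_div (a := 1) (b := 3) (by norm_num) (by simpa using hint.neg)
  norm_num at this

end CfsgLib.IP
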