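import Cfsg.Agent.Lib.IsaacsPassman.Quot
import Cfsg.Agent.Lib.IsaacsPassman.Bad
import Cfsg.Agent.Lib.IsaacsPassman.Small
import Cfsg.Agent.Lib.Invol.SelfNormalizing

/-!
# Abelian subgroups of small index in groups with bounded character degrees
-/

set_option autoImplicit false
set_option linter.style.haveILetI false
set_option linter.unusedSectionVars false

namespace CfsgLib.IP

open Cfsg CfsgLib.Char
open scoped ComplexConjugate CfsgLib.Char commutatorElement

universe u

variable {G : Type u} [Group G] [Fintype G] {b : ℕ}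

theorem resNorm_comap {S : Type u} [Group S] (π : G →* S) (hπ : Function.Surjective π)
    (K : Subgroup S) [Fintype K] [Fintype (K.comap π)] (ψ : S → ℂ) :
    resNorm (K.comap π) (ψ ∘ π) = resNorm K ψ := by
  classical
  let f : K.comap π →* K := π.subgroupComap K
  have hf : Function.Surjective f := fun k => by
    obtain ⟨g, hg⟩ := hπ k
    exact ⟨⟨g, show π g ∈ K by rw [hg]; exact k.2⟩, Subtype.ext hg⟩
  set c := (Finset.univ.filter fun a => f a = 1).card with hc
  have hfib : ∀ k : K, (Finset.univ.filter fun a => f a = k).card = c := fun k =>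
    MonoidHom.card_fiber_eq_of_mem_range f (by simpa using hf k) ⟨1, map_one f⟩
  have hcard : Nat.card (K.comap π) = Nat.card K * c := by
    rw [Nat.card_eq_fintype_card, ← Finset.card_univ, Finset.card_eq_sum_card_fiberwise
      (f := f) (t := Finset.univ) (fun a _ => Finset.mem_univ _)]
    rw [Finset.sum_congr rfl fun k _ => hfib k, Finset.sum_const, Finset.card_univ, smul_eq_mul,
      Nat.card_eq_fintype_card]
  have hsum : ∑ a : K.comap π, ‖(ψ ∘ π) a‖ ^ 2 = (c : ℝ) * ∑ k : K, ‖ψ k‖ ^ 2 := by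
    rw [← Finset.sum_fiberwise_of_maps_to (g := f) (t := Finset.univ) (fun a _ => Finset.mem_univ _),
      Finset.mul_sum]
    refine Finset.sum_congr rfl fun k _ => ?_
    have hval : ∀ a ∈ Finset.univ.filter (fun a => f a = k), ‖(ψ ∘ π) (a : G)‖ ^ 2 = ‖ψ k‖ ^ 2 := by
      intro a ha
      rw [← (Finset.mem_filter.mp ha).2]; rfl
    rw [Finset.sum_congr rfl hval, Finset.sum_const, nsmul_eq_mul, hfib]
  have hc0 : (c : ℝ) ≠ 0 := Nat.cast_ne_zero.mpr (Finset.card_pos.mpr ⟨1, by simp⟩).ne'
  simp only [resNorm]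
  rw [hsum, hcard, Nat.cast_mul, mul_inv, mul_assoc, inv_mul_cancel_left₀ hc0]

/-- If `χ` stays irreducible on `H` and `H/C` is a minimal normal abelian section, `χ` vanishes
on `H` off `C`. -/
theorem sum_vanish (C H : Subgroup G) [C.Normal] [H.Normal] [Fintype C] [Fintype H] (hCH : C ≤ H)
    (hab : ∀ x y : H, (x * y * x⁻¹ * y⁻¹ : G) ∈ C)
    (hmin : ∀ V : Subgroup G, V.Normal → C ≤ V → V ≤ H → V = C ∨ V = H)
    {χ : G → ℂ} (hχ : IsIrrCharacter G χ) (hirr : IsIrrCharacter H (fun h : H => χ h))
    (hR : 1 < resNorm C χ) : (Nat.card H : ℝ) = (Nat.card C : ℝ) * resNorm C χ := by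
  classical
  have hcl := isClassFunction_of_isCharacter (isCharacter_of_isIrr hχ)
  set T : Set G := (C : Set G) ∪ {g | g ∈ H ∧ χ g ≠ 0} with hT
  set V := Subgroup.closure T with hV
  haveI : V.Normal := ⟨fun v hv y => by
    have hle : V ≤ V.comap (MulAut.conj y).toMonoidHom := by
      rw [hV, Subgroup.closure_le]
      intro t ht
      refine Subgroup.subset_closure ?_
      rcases ht with ht | ⟨ht, ht'⟩
      · exact Or.inl (Subgroup.Normal.conj_mem inferInstance t ht y)
      · refine Or.inr ⟨Subgroup.Normal.conj_mem inferInstance t ht y, ?_⟩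
        show χ (y * t * y⁻¹) ≠ 0
        rwa [hcl]
    exact hle hv⟩
  have hCV : C ≤ V := fun c hc => Subgroup.subset_closure (Or.inl hc)
  have hVH : V ≤ H := (Subgroup.closure_le H).mpr fun t ht => ht.elim (fun h => hCH h) fun h => h.1
  rcases hmin V inferInstance hCV hVH with e | e
  · have hvan : ∀ h : H, (h : G) ∉ C → χ h = 0 := fun h hh => by
      by_contra h0
      exact hh (e ▸ Subgroup.subset_closure (Or.inr ⟨h.2, h0⟩))
    have h1 := classInner_irr_self hirr
    rw [classInner_self_eq] at h1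
    have h1' : (Nat.card H : ℝ)⁻¹ * ∑ h : H, ‖χ h‖ ^ 2 = 1 := by exact_mod_cast h1
    have hsum : ∑ h : H, ‖χ h‖ ^ 2 = ∑ c : C, ‖χ c‖ ^ 2 := by
      symm
      refine Finset.sum_bij_ne_zero (fun c _ _ => (⟨(c : G), hCH c.2⟩ : H)) (fun _ _ _ => Finset.mem_univ _)
        (fun a _ _ c _ _ he => Subtype.ext (congrArg (fun h : H => (h : G)) he))
        (fun h _ hh => ⟨⟨h, by by_contra hC'; exact hh (by rw [hvan h hC']; simp)⟩, Finset.mem_univ _, hh, rfl⟩)
        fun _ _ _ => rfl
    rw [hsum, inv_mul_eq_one₀ (Nat.cast_ne_zero.mpr Nat.card_pos.ne')] at h1'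
    rw [h1', resNorm, mul_inv_cancel_left₀ (Nat.cast_ne_zero.mpr Nat.card_pos.ne')]
  · exfalso
    set CH := C.subgroupOf H
    haveI : Fintype CH := Fintype.ofFinite CH
    haveI : Finite (LinTriv CH) := by
      haveI : Finite (H →* ℂˣ) := Finite.of_equiv _ (linearEquiv (G := H))
      infer_instance
    haveI : Fintype (LinTriv CH) := Fintype.ofFinite _
    obtain ⟨-, hsum⟩ := sum_linTriv CH (fun x y => hab x y)
    set χH : H → ℂ := fun h => χ h with hχH
    have hq : IsClassFunction H (absSq χH) :=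
      isClassFunction_of_isCharacter (isCharacter_absSq (isCharacter_of_isIrr hirr))
    have h1 : classInner (indFun CH (fun _ : CH => (1 : ℂ))) (absSq χH) = (resNorm C χ : ℂ) := by
      rw [frobenius_reciprocity CH _ hq]
      simp only [classInner, resNorm, absSq_eq, Complex.conj_ofReal, one_mul]
      push_cast
      rw [Nat.card_congr (Subgroup.subgroupOfEquivOfLe hCH).toEquiv]
      congr 1
      exact Fintype.sum_equiv (Subgroup.subgroupOfEquivOfLe hCH).toEquiv _ _ fun c => rfl
    have hterm : ∀ β : LinTriv CH, classInner (fun g : H => (β.1 g : ℂ)) (absSq χH) =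
        if β.1 = 1 then 1 else 0 := by
      intro β
      have e1 : classInner (fun g : H => (β.1 g : ℂ)) (absSq χH) =
          classInner (fun g : H => (β.1 g : ℂ) * χH g) χH := by
        simp only [classInner, absSq, map_mul, Complex.conj_conj]
        congr 1
        exact Finset.sum_congr rfl fun g _ => by ring
      rw [e1]
      split_ifs with hβ
      · simp only [hβ, MonoidHom.one_apply, Units.val_one, one_mul]
        exact classInner_irr_self hirr
      · refine classInner_irr_ne (isIrrCharacter_linear_mul hirr β.1) hirr fun e2 => hβ ?_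
        have hle : V ≤ (β.1.ker).map H.subtype := by
          rw [hV, Subgroup.closure_le]
          intro t ht
          rcases ht with ht | ⟨ht, ht'⟩
          · exact ⟨⟨t, hCH ht⟩, β.2 _ (Subgroup.mem_subgroupOf.mpr ht), rfl⟩
          · refine ⟨⟨t, ht⟩, MonoidHom.mem_ker.mpr (Units.ext ?_), rfl⟩
            exact mul_right_cancel₀ (show χH ⟨t, ht⟩ ≠ 0 from ht')
              ((congrFun e2 ⟨t, ht⟩).trans (one_mul _).symm)
        refine MonoidHom.ext fun h => ?_
        have hhV : (h : G) ∈ V := by rw [e]; exact h.2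
        obtain ⟨h', hh', he⟩ := hle hhV
        rw [← Subtype.ext he]
        exact MonoidHom.mem_ker.mp hh'
    rw [hsum, classInner_sum_left, Finset.sum_congr rfl fun β _ => hterm β,
      Finset.sum_boole] at h1
    have h2 : (Finset.univ.filter fun β : LinTriv CH => β.1 = 1).card ≤ 1 :=
      Finset.card_le_one.mpr fun β hβ γ hγ =>
        Subtype.ext ((Finset.mem_filter.mp hβ).2.trans (Finset.mem_filter.mp hγ).2.symm)
    have h3 : resNorm C χ = ((Finset.univ.filter fun β : LinTriv CH => β.1 = 1).card : ℝ) := by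
      exact_mod_cast h1.symm
    rw [h3] at hR
    exact absurd (Nat.one_lt_cast.mp hR) (not_lt.mpr h2)

/-- The nonsolvable quotient. -/
theorem perfect_case {S : Type u} [Group S] [Fintype S] (π : G →* S) (hπ : Function.Surjective π)
    (hb : Bd b G) (hmin : ∀ M : Subgroup S, M.Normal → M ≠ ⊥ → commutator S ≤ M)
    (hperf : ⁅commutator S, commutator S⁆ = commutator S) (hne : commutator S ≠ ⊥) :
    5 ≤ b ∧ (Nat.card S ≤ b ^ ((b + 1) / 2 + 1) ∨
      ∃ H : Subgroup G, Red b H ∧ H.index ≤ b ^ 2) := by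
  classical
  set K := commutator S with hKdef
  haveI : Fintype K := Fintype.ofFinite K
  have hbS : Bd b S := hb.comp π hπ
  have hb5 : 5 ≤ b := by
    haveI : Nontrivial K := (Subgroup.nontrivial_iff_ne_bot _).mpr hne
    obtain ⟨M, hM, hMne, hMmax⟩ := CfsgLib.Invol.SelfNorm.exists_maximal_normal (G := K)
    haveI := CfsgLib.Invol.SelfNorm.isSimpleGroup_quotient M hMne hMmax
    have hna : ∃ a c : K ⧸ M, a * c ≠ c * a := by
      by_contra h
      push Not at h
      refine hMne (top_le_iff.mp fun x _ => ?_)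
      have hle : ⁅K, K⁆ ≤ M.map K.subtype := Subgroup.commutator_le.mpr fun a ha c hc => by
        refine ⟨⁅(⟨a, ha⟩ : K), ⟨c, hc⟩⁆, ?_, rfl⟩
        rw [SetLike.mem_coe, ← QuotientGroup.eq_one_iff, ← QuotientGroup.mk'_apply, map_commutatorElement]
        exact commutatorElement_eq_one_iff_mul_comm.mpr (h _ _)
      obtain ⟨y, hy, hyx⟩ := hle (hperf.symm ▸ x.2 : (x : S) ∈ ⁅K, K⁆)
      rwa [Subtype.ext hyx] at hy
    obtain ⟨χ, d, hd, hd5⟩ := exists_five_le_degree hna
    exact hd5.trans (((hbS.subgroup K).comp (QuotientGroup.mk' M) (QuotientGroup.mk'_surjective M)) χ d hd)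
  refine ⟨hb5, ?_⟩
  by_cases hbad : ∀ (ψ : IrrCharacter S) (f : ℕ), (ψ : S → ℂ) 1 = f → 2 ≤ f → (f : ℝ) ≤ resNorm K ψ
  · exact Or.inl ((bad_bound K hne hmin hperf commutator_mem hbS hbad).trans
      (Nat.pow_le_pow_right (by omega) (by omega)))
  push Not at hbad
  obtain ⟨ψ, f, hf, hf2, hgood⟩ := hbad
  rcases le_or_gt (Nat.card S) (b ^ 4) with hsmall | hbig
  · exact Or.inl (hsmall.trans (Nat.pow_le_pow_right (by omega) (by omega)))
  refine Or.inr ?_
  obtain ⟨g, hgC, hgidx⟩ := exists_small_class_outside hb π.ker (by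
    rwa [Subgroup.index_ker, MonoidHom.range_eq_top.mpr hπ, Subgroup.card_top])
  refine ⟨Subgroup.centralizer {g}, fun χ hχ hirr => ?_, hgidx⟩
  set N := Subgroup.normalClosure ({g} : Set G) with hN
  haveI : Fintype N := Fintype.ofFinite N
  haveI : Fintype (K.comap π) := Fintype.ofFinite _
  have hsc : Scalar (χ : G → ℂ) g := scalar_of_central (isCharacter_of_isIrr χ.2) _ hirr
    (Subgroup.mem_centralizer_singleton_iff.mpr rfl)
    fun h hh => Subgroup.mem_centralizer_singleton_iff.mp hh
  have hscN := scalar_normalClosure (isCharacter_of_isIrr χ.2) hsc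
  have hψ' : IsIrrCharacter G ((ψ : S → ℂ) ∘ π) := Blocks.isIrrCharacter_comp_of_surjective ψ.2 π hπ
  have h1 := key' (by omega : b ≠ 0) hb N χ.2 hψ' hχ (f := f)
    (by rw [Function.comp_apply, map_one]; exact hf) fun n x => hscN n n.2 x
  have h2 : resNorm N ((ψ : S → ℂ) ∘ π) ≤ resNorm (K.comap π) ((ψ : S → ℂ) ∘ π) := by
    refine resNorm_mono N (isCharacter_of_isIrr hψ') (K.comap π) fun ξ hξ hξN => ?_
    haveI : Fintype π.ker := Fintype.ofFinite _
    have hinv : avgN π.ker (absSq ((ψ : S → ℂ) ∘ π)) = absSq ((ψ : S → ℂ) ∘ π) := by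
      funext x
      have : ∀ n : π.ker, absSq ((ψ : S → ℂ) ∘ π) ((n : G) * x) = absSq ((ψ : S → ℂ) ∘ π) x := fun n => by
        simp only [absSq, Function.comp_apply, map_mul, MonoidHom.mem_ker.mp n.2, one_mul]
      simp only [avgN, this, Finset.sum_const, Finset.card_univ, nsmul_eq_mul, ← Nat.card_eq_fintype_card]
      rw [inv_mul_cancel_left₀ (Nat.cast_ne_zero.mpr Nat.card_pos.ne')]
    rw [← hinv, classInner_avgN] at hξ
    rcases avgN_dichotomy π.ker ξ.2 with ⟨-, hker⟩ | ⟨h0, -⟩
    swap
    · rw [h0, classInner_zero_right] at hξ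
      exact absurd rfl hξ
    obtain ⟨L, hL, hmem, -⟩ := exists_kernel (isCharacter_of_isIrr ξ.2)
    have hNL : N ≤ L := fun n hn => (hmem n).mpr (hξN n hn)
    have hCL : π.ker ≤ L := fun n hn => (hmem n).mpr (by simpa using hker ⟨n, hn⟩ 1)
    haveI : (N.map π).Normal := (inferInstance : N.Normal).map π hπ
    have hK : K ≤ N.map π := hmin _ inferInstance fun e => hgC (MonoidHom.mem_ker.mpr (by
      have : π g ∈ N.map π := Subgroup.mem_map_of_mem π (Subgroup.subset_normalClosure rfl)
      rwa [e, Subgroup.mem_bot] at this))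
    intro n hn
    have h3 : n ∈ (N.map π).comap π := hK hn
    rw [Subgroup.comap_map_eq] at h3
    exact (hmem n).mp (sup_le hNL hCL h3)
  rw [resNorm_comap π hπ K] at h2
  linarith

/-- **Isaacs–Passman**: an abelian subgroup of index at most `(b!)²`. -/
theorem good (b : ℕ) : ∀ (G : Type u) [Group G] [Finite G], Bd b G → Good b G := by
  induction b using Nat.strong_induction_on with
  | _ b ih =>
  intro G _ _ hb
  classical
  haveI : Fintype G := Fintype.ofFinite G
  have hb1 := hb.one_le
  by_cases hcomm : ∀ x y : G, x * y = y * x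
  · exact ⟨⊤, fun x _ y _ => hcomm x y, by
      rw [Subgroup.index_top]; exact Nat.one_le_pow _ _ (Nat.factorial_pos b)⟩
  push Not at hcomm
  -- a maximal normal subgroup with nonabelian quotient
  obtain ⟨C, ⟨hCn, hCna⟩, hCmax⟩ := Set.Finite.exists_maximal
    (s := {C : Subgroup G | C.Normal ∧ ∃ x y, x * y * x⁻¹ * y⁻¹ ∉ C}) (Set.toFinite _)
    ⟨⊥, Subgroup.normal_bot, by
      obtain ⟨x, y, hxy⟩ := hcomm
      exact ⟨x, y, fun h => hxy (by
        rw [Subgroup.mem_bot, mul_inv_eq_one, mul_inv_eq_iff_eq_mul] at h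
        exact h)⟩⟩
  haveI := hCn
  set S := G ⧸ C
  set π := QuotientGroup.mk' C with hπdef
  have hπ : Function.Surjective π := QuotientGroup.mk'_surjective C
  haveI : Fintype S := Fintype.ofFinite S
  have hker : π.ker = C := QuotientGroup.ker_mk' C
  have hmin : ∀ M : Subgroup S, M.Normal → M ≠ ⊥ → commutator S ≤ M := by
    intro M hM hMne
    have hlt : C < M.comap π := by
      refine lt_of_le_of_ne (fun c hc => ?_) fun e => hMne ?_
      · show π c ∈ M
        rw [MonoidHom.mem_ker.mp (hker.symm ▸ hc : c ∈ π.ker)]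
        exact one_mem M
      · refine Subgroup.comap_injective hπ ?_
        rw [← e, MonoidHom.comap_bot, hker]
    have hall : ∀ x y, x * y * x⁻¹ * y⁻¹ ∈ M.comap π := by
      by_contra h
      push Not at h
      exact hlt.not_ge (hCmax ⟨hM.comap π, h⟩ hlt.le)
    rw [commutator_def, Subgroup.commutator_le]
    intro a _ c _
    obtain ⟨x, rfl⟩ := hπ a
    obtain ⟨y, rfl⟩ := hπ c
    rw [commutatorElement_def, ← map_inv, ← map_inv, ← map_mul, ← map_mul, ← map_mul]
    exact hall x y
  have hne : commutator S ≠ ⊥ := by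
    obtain ⟨x, y, hxy⟩ := hCna
    intro e
    have h := commutator_mem (π x) (π y)
    rw [e, Subgroup.mem_bot, ← map_inv, ← map_inv, ← map_mul, ← map_mul, ← map_mul] at h
    exact hxy (hker ▸ MonoidHom.mem_ker.mpr h)
  obtain ⟨ψ, f, hf, hf2⟩ := exists_nonlinear hne
  set ψG := Blocks.inflate π hπ ψ with hψG
  have hfG : (ψG : G → ℂ) 1 = f := by
    show (ψ : S → ℂ) (π 1) = f
    rw [map_one]; exact hf
  have hψker : ∀ n ∈ C, (ψG : G → ℂ) n = (ψG : G → ℂ) 1 := fun n hn => by
    show (ψ : S → ℂ) (π n) = (ψ : S → ℂ) (π 1)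
    rw [map_one, MonoidHom.mem_ker.mp (hker.symm ▸ hn : n ∈ π.ker)]
  have hfb : f ≤ b := hb ψG f hfG
  have hb2 : 2 ≤ b := hf2.trans hfb
  have step1 : ∀ H : Subgroup G, Red b H → H.index ≤ b ^ 2 → Good b G := fun H hR hi =>
    good_of_subgroup (ih (b - 1) (by omega) H (hb.of_red hR)) (factorial_step hb1 hi)
  have step2 : Nat.card S ≤ b ^ ((b + 1) / 2 + 1) → Good b G := fun hS =>
    good_of_subgroup (ih (b / 2) (Nat.div_lt_self (by omega) one_lt_two) C (hb.half C hfG hf2 hψker))
      ((Nat.mul_le_mul_right _ (by rwa [Subgroup.index_eq_card])).trans (budget hb2))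
  have hidx : ∀ M : Subgroup S, (M.comap π).index = M.index := fun M =>
    M.index_comap_of_surjective hπ
  by_cases hc : commutator S ≤ Subgroup.center S
  · refine step1 ((Subgroup.center S).comap π) (red_of_scalar hb _ hfG hf2 fun n hn g => ?_) ?_
    · obtain ⟨ω, hω1, hω⟩ := central_mul (ψ := ψ) hn
      show ‖(ψ : S → ℂ) (π (n * g))‖ = ‖(ψ : S → ℂ) (π g)‖
      rw [map_mul, hω, norm_mul, hω1, one_mul]
    · rw [hidx, central_case hmin hc hf hf2, sq]
      exact Nat.mul_le_mul hfb hfb
  by_cases habel : ∀ a ∈ commutator S, ∀ c ∈ commutator S, a * c = c * a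
  · obtain ⟨hfix, hdeg⟩ := abelian_case hmin habel hc
    have hm := hdeg ψ f hf hf2
    set K := commutator S
    set H := K.comap π with hH
    by_cases hR : Red b H
    · exact step1 H hR (by rw [hidx, sq]; exact (hm.trans hfb).trans (Nat.le_mul_self b))
    simp only [Red, not_forall, not_not] at hR
    obtain ⟨χ, hχ, hirr⟩ := hR
    haveI : Fintype H := Fintype.ofFinite H
    haveI : Fintype C := Fintype.ofFinite C
    have hCH : C ≤ H := fun c hc' => by
      show π c ∈ K
      rw [MonoidHom.mem_ker.mp (hker.symm ▸ hc' : c ∈ π.ker)]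
      exact one_mem K
    have hR2 : (f : ℝ) ≤ resNorm C χ := key (by omega) hb C χ.2 ψG.2 hχ hfG fun n g =>
      scalar_of_kernel (isCharacter_of_isIrr ψG.2) (hψker n n.2) g
    have hR1 : 1 < resNorm C χ := lt_of_lt_of_le (by exact_mod_cast hf2) hR2
    have hHC := sum_vanish C H hCH (fun x y => by
        rw [← hker, MonoidHom.mem_ker]
        simp only [map_mul, map_inv]
        rw [habel _ x.2 _ y.2]
        simp [mul_assoc])
      (fun V hV hCV hVH => by
        haveI : (V.map π).Normal := hV.map π hπ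
        by_cases hVb : V.map π = ⊥
        · left
          refine le_antisymm ?_ hCV
          rw [← hker, ← MonoidHom.comap_bot, ← hVb]
          exact Subgroup.le_comap_map _ _
        · right
          refine le_antisymm hVH ?_
          intro x hx
          have h3 : x ∈ (V.map π).comap π := hmin _ inferInstance hVb hx
          rw [Subgroup.comap_map_eq, hker, sup_eq_left.mpr hCV] at h3
          exact h3)
      χ.2 hirr hR1
    -- `|H| = |C| |K|`
    have hcardH : Nat.card H = Nat.card C * Nat.card K := by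
      have e1 := H.card_mul_index
      rw [hidx] at e1
      have e2 : K.index * Nat.card K = Nat.card S := by rw [mul_comm]; exact K.card_mul_index
      have e3 := C.card_mul_index
      rw [Subgroup.index_eq_card, show Nat.card (G ⧸ C) = Nat.card S from rfl, ← e2] at e3
      have hK0 : 0 < K.index := Nat.pos_of_ne_zero Subgroup.index_ne_zero_of_finite
      refine Nat.eq_of_mul_eq_mul_right hK0 (e1.trans ?_)
      rw [← e3]; ring
    rw [hcardH, Nat.cast_mul, mul_right_inj' (Nat.cast_ne_zero.mpr Nat.card_pos.ne')] at hHC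
    obtain ⟨θ, e, dθ, -, he0, hdθ, ht0, hnorm, hχdeg⟩ := clifford_norm C χ.2
    rw [← hHC, Nat.cast_inj] at hnorm
    rw [hχ] at hχdeg
    have hbeq : b = e * ((orbit C (θ : C → ℂ)).card * dθ) := by exact_mod_cast hχdeg
    have hdθ0 : 0 < dθ := Nat.pos_of_ne_zero fun e0 =>
      irr_degree_ne_zero θ.2 (by rw [hdθ, e0, Nat.cast_zero])
    have hKb : Nat.card K ≤ b * b := by
      rw [hnorm, hbeq]
      have h1 : e * (orbit C (θ : C → ℂ)).card ≤ e * ((orbit C (θ : C → ℂ)).card * dθ) :=
        Nat.mul_le_mul_left _ (Nat.le_mul_of_pos_right _ hdθ0)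
      calc e * e * (orbit C (θ : C → ℂ)).card = e * (e * (orbit C (θ : C → ℂ)).card) := by ring
        _ ≤ _ := Nat.mul_le_mul (Nat.le_mul_of_pos_right _ (Nat.mul_pos ht0 hdθ0)) h1
    rcases eq_or_lt_of_le hb2 with hbeq2 | hb3
    swap
    · refine step2 ?_
      have h3 : b ^ 3 ≤ b ^ ((b + 1) / 2 + 1) := Nat.pow_le_pow_right (by omega) (by omega)
      refine le_trans ?_ h3
      rw [← K.card_mul_index]
      calc Nat.card K * K.index ≤ b * b * b := Nat.mul_le_mul hKb (hm.trans hfb)
        _ = b ^ 3 := by ring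
    exfalso
    subst hbeq2
    -- `|K|` is odd
    have hi2 : K.index = 2 := by
      have h1 : K.index ≠ 1 := fun h => hc (by
        intro k hk
        refine Subgroup.mem_center_iff.mpr fun g => habel g ?_ k hk
        rw [Subgroup.index_eq_one.mp h]; trivial)
      have h0 : K.index ≠ 0 := Subgroup.index_ne_zero_of_finite
      omega
    obtain ⟨x, hx⟩ : ∃ x, x ∉ K := by
      by_contra h
      push Not at h
      have := Subgroup.index_eq_one.mpr (top_le_iff.mp fun y (_ : y ∈ (⊤ : Subgroup S)) => h y)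
      omega
    have hodd : ¬ 2 ∣ Nat.card K := by
      intro hdvd
      haveI : Fact (Nat.Prime 2) := ⟨Nat.prime_two⟩
      obtain ⟨k, hk⟩ := exists_prime_orderOf_dvd_card' (G := K) 2 hdvd
      have hk1 : (k : S) ≠ 1 := fun h => by
        rw [show k = 1 from Subtype.ext h, orderOf_one] at hk
        norm_num at hk
      have hkk : (k : S) * k = 1 := by
        have := pow_orderOf_eq_one k
        rw [hk, pow_two] at this
        exact congrArg Subtype.val this
      have hxx : x * x ∈ K := Subgroup.mul_self_mem_of_index_two hi2 x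
      have hc1 : x * (k : S) * x⁻¹ ∈ K := Subgroup.Normal.conj_mem inferInstance _ k.2 x
      have hfix1 := hfix x hx ((k : S) * (x * k * x⁻¹)) (K.mul_mem k.2 hc1) (by
        calc x * ((k : S) * (x * k * x⁻¹)) = (x * k * x⁻¹) * ((x * x) * k * (x * x)⁻¹) * x := by group
          _ = (x * k * x⁻¹) * (k : S) * x := by rw [habel _ hxx _ k.2, mul_inv_cancel_right]
          _ = (k : S) * (x * k * x⁻¹) * x := by rw [habel _ hc1 _ k.2])
      have h2 : x * (k : S) * x⁻¹ = k := by
        calc x * (k : S) * x⁻¹ = (k : S)⁻¹ * ((k : S) * (x * k * x⁻¹)) := by group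
          _ = (k : S)⁻¹ := by rw [hfix1, mul_one]
          _ = k := inv_eq_of_mul_eq_one_right hkk
      exact hk1 (hfix x hx k k.2 (mul_inv_eq_iff_eq_mul.mp h2))
    have hK2 : 2 ≤ Nat.card K := by
      have := (Subgroup.one_lt_card_iff_ne_bot K).mpr hne
      omega
    rw [hnorm] at hodd hK2
    have ht2 : (orbit C (θ : C → ℂ)).card ≤ 2 ∧ e ≤ 2 := by
      constructor <;> nlinarith [Nat.mul_pos he0 hdθ0, Nat.mul_pos ht0 hdθ0, Nat.mul_pos he0 ht0]
    obtain ⟨h1, h2⟩ := ht2
    generalize (orbit C (θ : C → ℂ)).card = t at *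
    interval_cases t <;> interval_cases e <;> omega
  push Not at habel
  have hperf : ⁅commutator S, commutator S⁆ = commutator S := by
    refine le_antisymm (Subgroup.commutator_le_left _ _) (hmin _ inferInstance fun e => ?_)
    obtain ⟨a, ha, c, hc', hne'⟩ := habel
    exact hne' (commutatorElement_eq_one_iff_mul_comm.mp (Subgroup.mem_bot.mp
      (e ▸ Subgroup.commutator_mem_commutator ha hc')))
  obtain ⟨hb5, h | ⟨H, hR, hi⟩⟩ := perfect_case π hπ hb hmin hperf hne
  · exact step2 h
  · exact step1 H hR hi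

end CfsgLib.IP
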