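import Cfsg.Agent.Lib.Char.Gallagher
import Cfsg.Agent.Lib.Char.Eigen
import Cfsg.Agent.Lib.Char.Counting

/-!
# Norms of products of irreducible characters of bounded degree
-/

set_option autoImplicit false
set_option linter.style.haveILetI false
set_option linter.unusedSectionVars false

namespace CfsgLib.IP

open Cfsg CfsgLib.Char
open scoped ComplexConjugate CfsgLib.Char

variable {G : Type*} [Group G] [Fintype G]

/-- The norm of the restriction to `N`. -/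
noncomputable def resNorm (N : Subgroup G) [Fintype N] (χ : G → ℂ) : ℝ :=
  (Nat.card N : ℝ)⁻¹ * ∑ n : N, ‖χ n‖ ^ 2

theorem resNorm_eq (N : Subgroup G) [Fintype N] (χ : G → ℂ) :
    classInner (fun n : N => χ n) (fun n : N => χ n) = (resNorm N χ : ℂ) :=
  classInner_self_eq _

/-- The character `χ χ̄`. -/
noncomputable def absSq (χ : G → ℂ) : G → ℂ := fun g => χ g * conj (χ g)

theorem absSq_eq (χ : G → ℂ) (g : G) : absSq χ g = ((‖χ g‖ ^ 2 : ℝ) : ℂ) := by
  simp [absSq, Complex.mul_conj']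

theorem isCharacter_absSq {χ : G → ℂ} (hχ : IsCharacter G χ) : IsCharacter G (absSq χ) :=
  isCharacter_mul hχ (isCharacter_conj hχ)

variable (N : Subgroup G) [N.Normal] [Fintype N]

theorem avgN_absSq_one (χ : G → ℂ) : avgN N (absSq χ) 1 = (resNorm N χ : ℂ) := by
  simp [avgN, resNorm, absSq_eq]

theorem avgN_irr_le {ξ : G → ℂ} (hξ : IsIrrCharacter G ξ) (g : G) :
    ‖avgN N ξ g‖ ≤ (avgN N ξ 1).re := by
  rcases avgN_dichotomy N hξ with ⟨h, -⟩ | ⟨h, -⟩
  · rw [h]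
    obtain ⟨d, ρ, hρ, rfl⟩ := hξ
    rw [Representation.char_one, Complex.natCast_re]
    exact norm_character_le ρ g
  · rw [h]; simp

theorem avgN_char_le {φ : G → ℂ} (hφ : IsCharacter G φ) (g : G) :
    ‖avgN N φ g‖ ≤ (avgN N φ 1).re := by
  obtain ⟨m, rfl⟩ := exists_multiplicities hφ
  have h : ∀ x, avgN N (∑ ξ : IrrCharacter G, (m ξ : ℂ) • (ξ : G → ℂ)) x =
      ∑ ξ : IrrCharacter G, (m ξ : ℂ) * avgN N (ξ : G → ℂ) x := by
    intro x
    simp only [avgN, Finset.sum_apply, Pi.smul_apply, smul_eq_mul, Finset.mul_sum]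
    rw [Finset.sum_comm]
    exact Finset.sum_congr rfl fun ξ _ => Finset.sum_congr rfl fun n _ => by ring
  rw [h, h, Complex.re_sum]
  refine (norm_sum_le _ _).trans (Finset.sum_le_sum fun ξ _ => ?_)
  rw [norm_mul, Complex.norm_natCast, ← Complex.ofReal_natCast, Complex.re_ofReal_mul]
  exact mul_le_mul_of_nonneg_left (avgN_irr_le N ξ.2 g) (Nat.cast_nonneg _)

/-- The restriction to a bigger normal subgroup has smaller norm. -/
theorem resNorm_mono {φ : G → ℂ} (hφ : IsCharacter G φ) (M : Subgroup G) [M.Normal] [Fintype M]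
    (h : ∀ ξ : IrrCharacter G, classInner (absSq φ) (ξ : G → ℂ) ≠ 0 →
      (∀ n ∈ N, (ξ : G → ℂ) n = (ξ : G → ℂ) 1) → ∀ n ∈ M, (ξ : G → ℂ) n = (ξ : G → ℂ) 1) :
    resNorm N φ ≤ resNorm M φ := by
  obtain ⟨m, hm⟩ := exists_multiplicities (isCharacter_absSq hφ)
  have key : ∀ (L : Subgroup G) [L.Normal] [Fintype L], resNorm L φ =
      ∑ ξ : IrrCharacter G, (m ξ : ℝ) * (avgN L (ξ : G → ℂ) 1).re := by
    intro L _ _
    have h1 := congrArg Complex.re (avgN_absSq_one L φ)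
    rw [Complex.ofReal_re] at h1
    rw [← h1, hm]
    simp only [avgN, Finset.sum_apply, Pi.smul_apply, smul_eq_mul, Finset.mul_sum]
    rw [Finset.sum_comm, Complex.re_sum]
    refine Finset.sum_congr rfl fun ξ _ => ?_
    rw [← Complex.re_ofReal_mul, Finset.mul_sum]
    congr 1
    exact Finset.sum_congr rfl fun n _ => by push_cast; ring
  rw [key N, key M]
  refine Finset.sum_le_sum fun ξ _ => ?_
  by_cases hmξ : m ξ = 0
  · simp [hmξ]
  refine mul_le_mul_of_nonneg_left ?_ (Nat.cast_nonneg _)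
  rcases avgN_dichotomy N ξ.2 with ⟨hN, hN'⟩ | ⟨hN, -⟩
  · have hc : classInner (absSq φ) (ξ : G → ℂ) ≠ 0 := by
      rw [hm, classInner_sum_smul_irr]; exact Nat.cast_ne_zero.mpr hmξ
    have hM := h ξ hc fun n hn => by simpa using hN' ⟨n, hn⟩ 1
    rcases avgN_dichotomy M ξ.2 with ⟨hM', -⟩ | ⟨-, n, hn⟩
    · rw [hN, hM']
    · exact absurd (hM n n.2) hn
  · rw [hN, Pi.zero_apply, Complex.zero_re]
    exact (norm_nonneg _).trans (avgN_irr_le M ξ.2 1)

/-- If `|ψ|²` is constant on the cosets of `N`, the norm of `χψ` is at most that of `χ|N`. -/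
theorem classInner_mul_le {χ ψ : G → ℂ} (hχ : IsCharacter G χ) (hψ : IsIrrCharacter G ψ)
    (hinv : ∀ (n : N) (g : G), ‖ψ ((n : G) * g)‖ = ‖ψ g‖) :
    (classInner (χ * ψ) (χ * ψ)).re ≤ resNorm N χ := by
  have hψ1 : (Nat.card G : ℝ)⁻¹ * ∑ g, ‖ψ g‖ ^ 2 = 1 := by
    have := classInner_irr_self hψ
    rw [classInner_self_eq] at this
    exact_mod_cast this
  have hcN : (Nat.card N : ℂ) ≠ 0 := Nat.cast_ne_zero.mpr Nat.card_pos.ne'
  have hsum : ∑ g : G, absSq χ g * absSq ψ g = ∑ g : G, avgN N (absSq χ) g * absSq ψ g := by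
    symm
    simp only [avgN, mul_assoc, Finset.sum_mul]
    rw [← Finset.mul_sum, Finset.sum_comm]
    have h : ∀ n : N, ∑ g : G, absSq χ ((n : G) * g) * absSq ψ g =
        ∑ g : G, absSq χ g * absSq ψ g := by
      intro n
      refine Fintype.sum_equiv (Equiv.mulLeft (n : G)) _ _ fun g => ?_
      rw [Equiv.coe_mulLeft, absSq_eq ψ ((n : G) * g), hinv, ← absSq_eq]
    rw [Finset.sum_congr rfl fun n _ => h n, Finset.sum_const, Finset.card_univ, nsmul_eq_mul,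
      ← Nat.card_eq_fintype_card, inv_mul_cancel_left₀ hcN]
  have heq : classInner (χ * ψ) (χ * ψ) =
      (Nat.card G : ℂ)⁻¹ * ∑ g : G, avgN N (absSq χ) g * absSq ψ g := by
    rw [← hsum]
    simp only [classInner, absSq, Pi.mul_apply, map_mul]
    congr 1
    exact Finset.sum_congr rfl fun g _ => by ring
  rw [heq, ← Complex.ofReal_natCast, ← Complex.ofReal_inv, Complex.re_ofReal_mul, Complex.re_sum]
  calc (Nat.card G : ℝ)⁻¹ * ∑ g, (avgN N (absSq χ) g * absSq ψ g).re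
      ≤ (Nat.card G : ℝ)⁻¹ * ∑ g, resNorm N χ * ‖ψ g‖ ^ 2 := by
        refine mul_le_mul_of_nonneg_left (Finset.sum_le_sum fun g _ => ?_) (by positivity)
        rw [absSq_eq ψ, mul_comm _ ((_ : ℝ) : ℂ), Complex.re_ofReal_mul, mul_comm (resNorm N χ)]
        refine mul_le_mul_of_nonneg_left ((Complex.re_le_norm _).trans ?_) (by positivity)
        have := avgN_char_le N (isCharacter_absSq hχ) g
        rwa [avgN_absSq_one, Complex.ofReal_re] at this
    _ = resNorm N χ := by rw [← Finset.mul_sum, mul_left_comm, hψ1, mul_one]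

end CfsgLib.IP

namespace CfsgLib.IP

open Cfsg CfsgLib.Char
open scoped ComplexConjugate CfsgLib.Char

variable {G : Type*} [Group G] [Fintype G]

/-- If all degrees are at most `b` and `χ` has degree `b`, then `ψ(1) ≤ ⟨χψ, χψ⟩`. -/
theorem degree_le_classInner_mul {b : ℕ} (hb0 : b ≠ 0)
    (hb : ∀ (ξ : IrrCharacter G) (d : ℕ), (ξ : G → ℂ) 1 = d → d ≤ b)
    {χ ψ : G → ℂ} (hχ : IsIrrCharacter G χ) (hψ : IsIrrCharacter G ψ) (hχ1 : χ 1 = b) {f : ℕ}
    (hψ1 : ψ 1 = f) : (f : ℝ) ≤ (classInner (χ * ψ) (χ * ψ)).re := by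
  obtain ⟨m, hm⟩ := exists_multiplicities
    (isCharacter_mul (isCharacter_of_isIrr hχ) (isCharacter_of_isIrr hψ))
  have h1 := congrFun hm 1
  rw [Pi.mul_apply, hχ1, hψ1, Finset.sum_apply] at h1
  choose d hd0 hd using fun ξ : IrrCharacter G => exists_nat_degree_irr ξ.2
  simp only [Pi.smul_apply, smul_eq_mul, hd] at h1
  have h2 : b * f = ∑ ξ : IrrCharacter G, m ξ * d ξ := by exact_mod_cast h1
  have h3 : b * f ≤ b * ∑ ξ : IrrCharacter G, m ξ * m ξ := by
    rw [h2, Finset.mul_sum]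
    refine Finset.sum_le_sum fun ξ _ => ?_
    calc m ξ * d ξ ≤ m ξ * b := Nat.mul_le_mul_left _ (hb ξ _ (hd ξ))
      _ ≤ m ξ * m ξ * b := Nat.mul_le_mul_right _ (Nat.le_mul_self _)
      _ = b * (m ξ * m ξ) := mul_comm _ _
  have h4 : classInner (χ * ψ) (χ * ψ) = ((∑ ξ : IrrCharacter G, m ξ * m ξ : ℕ) : ℂ) := by
    rw [hm, classInner_sum_smul_sum_smul]
    push_cast
    exact Finset.sum_congr rfl fun ξ _ => by rw [map_natCast]
  rw [h4, Complex.natCast_re]
  exact_mod_cast Nat.le_of_mul_le_mul_left h3 (Nat.pos_of_ne_zero hb0)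

/-- The key inequality. -/
theorem key {b : ℕ} (hb0 : b ≠ 0) (hb : ∀ (ξ : IrrCharacter G) (d : ℕ), (ξ : G → ℂ) 1 = d → d ≤ b)
    (N : Subgroup G) [N.Normal] [Fintype N]
    {χ ψ : G → ℂ} (hχ : IsIrrCharacter G χ) (hψ : IsIrrCharacter G ψ) (hχ1 : χ 1 = b) {f : ℕ}
    (hψ1 : ψ 1 = f) (hinv : ∀ (n : N) (g : G), ‖ψ ((n : G) * g)‖ = ‖ψ g‖) :
    (f : ℝ) ≤ resNorm N χ :=
  (degree_le_classInner_mul hb0 hb hχ hψ hχ1 hψ1).trans
    (classInner_mul_le N (isCharacter_of_isIrr hχ) hψ hinv)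

/-- The mirror of the key inequality. -/
theorem key' {b : ℕ} (hb0 : b ≠ 0) (hb : ∀ (ξ : IrrCharacter G) (d : ℕ), (ξ : G → ℂ) 1 = d → d ≤ b)
    (N : Subgroup G) [N.Normal] [Fintype N]
    {χ ψ : G → ℂ} (hχ : IsIrrCharacter G χ) (hψ : IsIrrCharacter G ψ) (hχ1 : χ 1 = b) {f : ℕ}
    (hψ1 : ψ 1 = f) (hinv : ∀ (n : N) (g : G), ‖χ ((n : G) * g)‖ = ‖χ g‖) :
    (f : ℝ) ≤ resNorm N ψ := by
  refine (degree_le_classInner_mul hb0 hb hχ hψ hχ1 hψ1).trans ?_
  rw [mul_comm χ ψ]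
  exact classInner_mul_le N (isCharacter_of_isIrr hψ) hχ hinv

theorem resNorm_of_irr (N : Subgroup G) [Fintype N] {χ : G → ℂ}
    (h : IsIrrCharacter N (fun n : N => χ n)) : resNorm N χ = 1 := by
  have := resNorm_eq N χ
  rw [classInner_irr_self h] at this
  exact_mod_cast this.symm

end CfsgLib.IP
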