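import Cfsg.Agent.Lib.IsaacsPassman.Norm
import Cfsg.Agent.Lib.Char.Clifford
import Cfsg.Agent.Lib.Char.Kernel

/-!
# Scalar elements, kernels and Clifford norms
-/

set_option autoImplicit false
set_option linter.style.haveILetI false
set_option linter.unusedSectionVars false

namespace CfsgLib.IP

open Cfsg CfsgLib.Char
open scoped ComplexConjugate CfsgLib.Char

variable {G : Type*} [Group G] [Fintype G]

/-- An element acts by a scalar in the representation of `χ` iff `|χ g| = χ 1`. -/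
def Scalar (χ : G → ℂ) (n : G) : Prop := ∀ g, ‖χ (n * g)‖ = ‖χ g‖

theorem scalar_of_rep {d : ℕ} {ρ : Representation ℂ G (Fin d → ℂ)} {n : G} {ω : ℂ}
    (h : ρ n = ω • (LinearMap.id : (Fin d → ℂ) →ₗ[ℂ] (Fin d → ℂ))) : Scalar ρ.character n := by
  rcases Nat.eq_zero_or_pos d with rfl | hd
  · intro g
    have : ∀ x, ρ.character x = 0 := fun x => by
      show LinearMap.trace ℂ _ (ρ x) = 0
      rw [Subsingleton.elim (ρ x) 0, map_zero]
    simp [this]
  obtain ⟨m, hm, hnm⟩ := isOfFinOrder_iff_pow_eq_one.mp (isOfFinOrder_of_finite n)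
  have hω : ω ^ m = 1 := by
    have h1 : ρ (n ^ m) = 1 := by rw [hnm, map_one]
    rw [map_pow, h, smul_pow, show (LinearMap.id : (Fin d → ℂ) →ₗ[ℂ] (Fin d → ℂ)) = 1 from rfl,
      one_pow] at h1
    haveI : Nonempty (Fin d) := ⟨⟨0, hd⟩⟩
    have h2 := congrFun (LinearMap.congr_fun h1 (fun _ => 1)) ⟨0, hd⟩
    simpa using h2
  intro g
  have : ρ.character (n * g) = ω * ρ.character g := by
    show LinearMap.trace ℂ _ (ρ (n * g)) = ω * LinearMap.trace ℂ _ (ρ g)
    rw [map_mul, h, show (LinearMap.id : (Fin d → ℂ) →ₗ[ℂ] (Fin d → ℂ)) = 1 from rfl, smul_mul_assoc,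
      one_mul, map_smul, smul_eq_mul]
  rw [this, norm_mul, Complex.norm_eq_one_of_pow_eq_one hω hm.ne', one_mul]

theorem scalar_of_central {χ : G → ℂ} (hχ : IsCharacter G χ) (H : Subgroup G)
    (hirr : IsIrrCharacter H (fun h : H => χ h)) {n : G} (hn : n ∈ H)
    (hc : ∀ h ∈ H, h * n = n * h) : Scalar χ n := by
  obtain ⟨d, ρ, rfl⟩ := hχ
  haveI : Fintype H := Fintype.ofFinite H
  set σ : Representation ℂ H (Fin d → ℂ) := ρ.comp H.subtype with hσdef
  have hchar : σ.character = fun h : H => ρ.character h := rfl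
  have h1 : Module.finrank ℂ (Representation.IntertwiningMap σ σ) = 1 := by
    have h := classInner_character_eq_finrank σ σ
    rw [hchar, classInner_irr_self hirr] at h
    exact_mod_cast h.symm
  let T : Representation.IntertwiningMap σ σ := ⟨ρ n, fun g => by
    show ρ n ∘ₗ ρ (g : G) = ρ (g : G) ∘ₗ ρ n
    rw [← Module.End.mul_eq_comp, ← Module.End.mul_eq_comp, ← map_mul, ← map_mul, hc g g.2]⟩
  let I : Representation.IntertwiningMap σ σ := ⟨LinearMap.id, fun g => rfl⟩
  have hI : I ≠ 0 := by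
    intro e
    have hd : d ≠ 0 := by
      intro hd0
      apply irr_degree_ne_zero hirr
      show ρ.character ((1 : H) : G) = 0
      subst hd0
      show LinearMap.trace ℂ _ (ρ _) = 0
      rw [Subsingleton.elim (ρ _) 0, map_zero]
    haveI : Nonempty (Fin d) := ⟨⟨0, Nat.pos_of_ne_zero hd⟩⟩
    have h2 := congrFun (LinearMap.congr_fun (congrArg Representation.IntertwiningMap.toLinearMap e)
      (fun _ => (1 : ℂ))) ⟨0, Nat.pos_of_ne_zero hd⟩
    exact one_ne_zero (α := ℂ) h2
  obtain ⟨ω, hω⟩ := (finrank_eq_one_iff_of_nonzero' I hI).mp h1 T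
  exact scalar_of_rep (ω := ω) (congrArg Representation.IntertwiningMap.toLinearMap hω).symm

theorem scalar_normalClosure {χ : G → ℂ} (hχ : IsCharacter G χ) {g : G} (hg : Scalar χ g) :
    ∀ n ∈ Subgroup.normalClosure ({g} : Set G), Scalar χ n := by
  have hcl := isClassFunction_of_isCharacter hχ
  let Z : Subgroup G :=
    { carrier := {n | Scalar χ n}
      one_mem' := fun x => by rw [one_mul]
      mul_mem' := fun {a b} ha hb x => by rw [mul_assoc, ha, hb]
      inv_mem' := fun {a} ha x => by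
        have := ha (a⁻¹ * x)
        rw [mul_inv_cancel_left] at this
        exact this.symm }
  have hZ : Z.Normal := ⟨fun a ha c x => by
    have e1 : χ (c * a * c⁻¹ * x) = χ (a * (c⁻¹ * x * c)) := by
      rw [show c * a * c⁻¹ * x = c * (a * (c⁻¹ * x * c)) * c⁻¹ by group]
      exact hcl _ _
    have e2 : χ (c⁻¹ * x * c) = χ x := by
      have := hcl x c⁻¹
      rwa [inv_inv] at this
    rw [e1, ha, e2]⟩
  exact fun n hn => Subgroup.normalClosure_le_normal (N := Z) (Set.singleton_subset_iff.mpr (show g ∈ Z from hg)) hn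

theorem scalar_of_kernel {χ : G → ℂ} (hχ : IsCharacter G χ) {n : G} (hn : χ n = χ 1) :
    Scalar χ n := by
  obtain ⟨K, -, hmem, hconst⟩ := exists_kernel hχ
  intro g
  rw [hconst n ((hmem n).mpr hn) g]

/-- Clifford: the norm of a restriction is `e² t`. -/
theorem clifford_norm (N : Subgroup G) [N.Normal] [Fintype N] {ψ : G → ℂ} (hψ : IsIrrCharacter G ψ) :
    ∃ (θ : IrrCharacter N) (e dθ : ℕ), classInner (fun n : N => ψ n) (θ : N → ℂ) = e ∧ 0 < e ∧
      (θ : N → ℂ) 1 = dθ ∧ 0 < (orbit N (θ : N → ℂ)).card ∧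
      resNorm N ψ = ((e * e * (orbit N (θ : N → ℂ)).card : ℕ) : ℝ) ∧
      ψ 1 = ((e * ((orbit N (θ : N → ℂ)).card * dθ) : ℕ) : ℂ) := by
  obtain ⟨θ, hcon⟩ := exists_constituent N (isCharacter_of_isIrr hψ) (irr_degree_ne_zero hψ)
  obtain ⟨e, he⟩ := exists_nat_classInner (isCharacter_restrict N (isCharacter_of_isIrr hψ))
    (isCharacter_of_isIrr θ.2)
  obtain ⟨dθ, -, hdθ⟩ := exists_nat_degree_irr θ.2
  refine ⟨θ, e, dθ, he, ?_, hdθ, Finset.card_pos.mpr ⟨_, self_mem_orbit N _⟩, ?_, ?_⟩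
  · rcases Nat.eq_zero_or_pos e with h0 | h0
    · rw [he, h0, Nat.cast_zero] at hcon; exact absurd rfl hcon
    · exact h0
  · classical
    have h := resNorm_eq N ψ
    have hsum : classInner (∑ φ ∈ orbit N (θ : N → ℂ), φ) (∑ φ ∈ orbit N (θ : N → ℂ), φ) =
        ((orbit N (θ : N → ℂ)).card : ℂ) := by
      rw [classInner_sum_left]
      have : ∀ φ ∈ orbit N (θ : N → ℂ),
          classInner φ (∑ φ' ∈ orbit N (θ : N → ℂ), φ') = 1 := by
        intro φ hφ
        rw [classInner_sum_right]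
        have hirr : ∀ φ' ∈ orbit N (θ : N → ℂ), IsIrrCharacter N φ' := fun φ' hφ' => by
          obtain ⟨g, rfl⟩ := (mem_orbit N).mp hφ'
          exact isIrrCharacter_conjBy N θ.2 g
        rw [Finset.sum_eq_single φ (fun φ' hφ' hne => classInner_irr_ne (hirr φ hφ) (hirr φ' hφ') (Ne.symm hne))
          (fun hn => absurd hφ hn), classInner_irr_self (hirr φ hφ)]
      rw [Finset.sum_congr rfl this, Finset.sum_const, nsmul_one]
    rw [clifford N hψ θ.2 hcon, he, classInner_smul_left, classInner_smul_right, hsum,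
      map_natCast] at h
    have h' : ((resNorm N ψ : ℝ) : ℂ) = (((e * e * (orbit N (θ : N → ℂ)).card : ℕ) : ℝ) : ℂ) := by
      rw [← h]; push_cast; ring
    exact_mod_cast h'
  · rw [clifford_degree N hψ θ.2 hcon, he, hdθ]
    push_cast; ring

end CfsgLib.IP
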