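import Cfsg.Agent.Lib.IsaacsPassman.Rep
import Cfsg.Agent.Lib.Char.Table
import Cfsg.Agent.Lib.Char.AbelianQuotient
import Cfsg.Agent.Lib.Blocks.Inflate
import Cfsg.Agent.Lib.BrauerTuan.Basic
import Cfsg.Agent.Lib.Char.Extraspecial
import Cfsg.Agent.Lib.Invol.Dihedral

/-!
# Induction steps for the Isaacs–Passman theorem
-/

set_option autoImplicit false
set_option linter.style.haveILetI false
set_option linter.unusedSectionVars false

namespace CfsgLib.IP

open Cfsg CfsgLib.Char
open scoped ComplexConjugate CfsgLib.Char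

/-- All degrees are at most `b`. -/
def Bd (b : ℕ) (G : Type*) [Group G] : Prop :=
  ∀ (ξ : IrrCharacter G) (d : ℕ), (ξ : G → ℂ) 1 = d → d ≤ b

/-- No character of degree `b` stays irreducible on `H`. -/
def Red (b : ℕ) {G : Type*} [Group G] (H : Subgroup G) : Prop :=
  ∀ χ : IrrCharacter G, (χ : G → ℂ) 1 = b → ¬ IsIrrCharacter H (fun h : H => (χ : G → ℂ) h)

/-- The conclusion. -/
def Good (b : ℕ) (G : Type*) [Group G] : Prop :=
  ∃ A : Subgroup G, (∀ x ∈ A, ∀ y ∈ A, x * y = y * x) ∧ A.index ≤ Nat.factorial b ^ 2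

section
variable {G : Type*} [Group G] [Finite G] {b : ℕ}

theorem exists_over (H : Subgroup G) [Fintype H] (θ : IrrCharacter H) :
    ∃ χ : IrrCharacter G, classInner (fun h : H => (χ : G → ℂ) h) (θ : H → ℂ) ≠ 0 := by
  haveI : Fintype G := Fintype.ofFinite G
  obtain ⟨m, hm⟩ := exists_multiplicities (isCharacter_indFun H (isCharacter_of_isIrr θ.2))
  obtain ⟨χ, hχ⟩ : ∃ χ : IrrCharacter G, m χ ≠ 0 := by
    by_contra hall
    push Not at hall
    have h0 : indFun H (θ : H → ℂ) = 0 := by rw [hm]; simp [hall]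
    have h1 := congrFun h0 1
    simp only [indFun, mul_one, inv_mul_cancel, Pi.zero_apply, Finset.sum_const, Finset.card_univ, nsmul_eq_mul,
      mul_eq_zero, inv_eq_zero, Nat.cast_eq_zero] at h1
    rcases h1 with h1 | h1 | h1
    · exact Nat.card_pos.ne' h1
    · exact Fintype.card_ne_zero h1
    · rw [← Subgroup.coe_one H, extendByZero_coe] at h1
      exact irr_degree_ne_zero θ.2 h1
  have h2 := frobenius_reciprocity' H (θ : H → ℂ)
    (isClassFunction_of_isCharacter (isCharacter_of_isIrr χ.2))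
  rw [← classInner_conj_symm, hm, classInner_sum_smul_irr, map_natCast] at h2
  exact ⟨χ, by rw [← h2]; exact Nat.cast_ne_zero.mpr hχ⟩

theorem degree_le_of_over (H : Subgroup G) [Fintype H] {θ : IrrCharacter H} {χ : IrrCharacter G}
    (h : classInner (fun h : H => (χ : G → ℂ) h) (θ : H → ℂ) ≠ 0) {d D : ℕ}
    (hd : (θ : H → ℂ) 1 = d) (hD : (χ : G → ℂ) 1 = D) : d ≤ D := by
  have := BrauerTuan.degree_le_of_inner (isCharacter_restrict H (isCharacter_of_isIrr χ.2)) h (d := D)
    (by rw [Subgroup.coe_one]; exact hD)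
  rwa [Extraspecial.charDegree_eq hd] at this

theorem irr_of_degree_eq {φ : G → ℂ} (hφ : IsCharacter G φ) (θ : IrrCharacter G) [Fintype G]
    (h : classInner φ (θ : G → ℂ) ≠ 0) (hd : φ 1 = (θ : G → ℂ) 1) : IsIrrCharacter G φ := by
  classical
  obtain ⟨m, rfl⟩ := exists_multiplicities hφ
  rw [classInner_sum_smul_irr, Nat.cast_ne_zero] at h
  choose d hd0 hdeg using fun ξ : IrrCharacter G => exists_nat_degree_irr ξ.2
  rw [Finset.sum_apply] at hd
  simp only [Pi.smul_apply, smul_eq_mul, hdeg] at hd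
  have hd' : ∑ ξ : IrrCharacter G, m ξ * d ξ = d θ := by exact_mod_cast hd
  rw [← Finset.add_sum_erase _ _ (Finset.mem_univ θ)] at hd'
  have h1 : d θ ≤ m θ * d θ := Nat.le_mul_of_pos_left _ (Nat.pos_of_ne_zero h)
  have h2 : m θ = 1 := Nat.eq_of_mul_eq_mul_right (hd0 θ) (by omega : m θ * d θ = 1 * d θ)
  have h3 : ∀ ξ : IrrCharacter G, ξ ≠ θ → m ξ = 0 := fun ξ hξ => by
    have := (Finset.sum_eq_zero_iff).mp (show ∑ ζ ∈ Finset.univ.erase θ, m ζ * d ζ = 0 by omega) ξ
      (Finset.mem_erase.mpr ⟨hξ, Finset.mem_univ _⟩)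
    exact (mul_eq_zero.mp this).resolve_right (Nat.pos_iff_ne_zero.mp (hd0 ξ))
  convert θ.2
  rw [Finset.sum_eq_single θ (fun ξ _ hξ => by rw [h3 ξ hξ, Nat.cast_zero, zero_smul])
    (fun hn => absurd (Finset.mem_univ θ) hn), h2, Nat.cast_one, one_smul]

theorem Bd.one_le (hb : Bd b G) : 1 ≤ b :=
  hb ⟨fun _ => 1, isIrrCharacter_one⟩ 1 (by simp)

theorem Bd.subgroup (hb : Bd b G) (H : Subgroup G) : Bd b H := by
  haveI : Fintype H := Fintype.ofFinite H
  intro θ d hd
  obtain ⟨χ, hχ⟩ := exists_over H θ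
  obtain ⟨D, -, hD⟩ := exists_nat_degree_irr χ.2
  exact (degree_le_of_over H hχ hd hD).trans (hb χ D hD)

theorem Bd.comp (hb : Bd b G) {G' : Type*} [Group G'] (f : G →* G') (hf : Function.Surjective f) :
    Bd b G' := fun ξ d hd =>
  hb (Blocks.inflate f hf ξ) d (by
    show (ξ : G' → ℂ) (f 1) = d
    rw [map_one]; exact hd)

theorem Bd.of_red (hb : Bd b G) {H : Subgroup G} (hR : Red b H) : Bd (b - 1) H := by
  haveI : Fintype G := Fintype.ofFinite G
  haveI : Fintype H := Fintype.ofFinite H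
  intro θ d hd
  by_contra hlt
  obtain ⟨χ, hχ⟩ := exists_over H θ
  obtain ⟨D, -, hD⟩ := exists_nat_degree_irr χ.2
  have h1 := degree_le_of_over H hχ hd hD
  have h2 := hb χ D hD
  have h3 : D = b := by omega
  refine hR χ (by rw [hD, h3]) (irr_of_degree_eq (isCharacter_restrict H (isCharacter_of_isIrr χ.2)) θ hχ ?_)
  rw [Subgroup.coe_one, hD, hd]
  exact_mod_cast (by omega : D = d)

omit [Finite G] in
theorem good_of_subgroup {H : Subgroup G} {c : ℕ} (hH : Good c H)
    (hle : H.index * Nat.factorial c ^ 2 ≤ Nat.factorial b ^ 2) : Good b G := by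
  obtain ⟨A, hA, hidx⟩ := hH
  refine ⟨A.map H.subtype, ?_, ?_⟩
  · rintro _ ⟨x, hx, rfl⟩ _ ⟨y, hy, rfl⟩
    rw [← map_mul, hA x hx y hy, map_mul]
  · rw [Subgroup.index_map_subtype, mul_comm]
    exact le_trans (Nat.mul_le_mul_left _ hidx) hle

theorem factorial_step {c : ℕ} (hb : 1 ≤ b) (hc : c ≤ b ^ 2) :
    c * Nat.factorial (b - 1) ^ 2 ≤ Nat.factorial b ^ 2 := by
  obtain ⟨a, rfl⟩ : ∃ a, b = a + 1 := ⟨b - 1, by omega⟩
  rw [Nat.add_sub_cancel, Nat.factorial_succ, mul_pow]
  exact Nat.mul_le_mul_right _ hc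

theorem budget (hb : 2 ≤ b) :
    b ^ ((b + 1) / 2 + 1) * Nat.factorial (b / 2) ^ 2 ≤ Nat.factorial b ^ 2 := by
  have key : ∀ j, b / 2 + j + 1 ≤ b →
      b ^ j * Nat.factorial (b / 2) ^ 2 ≤ Nat.factorial (b / 2 + j) ^ 2 := by
    intro j
    induction j with
    | zero => intro _; simp
    | succ j ih =>
      intro hj
      have h1 := ih (by omega)
      rw [← add_assoc, Nat.factorial_succ, mul_pow, pow_succ, mul_right_comm, mul_comm _ b]
      refine Nat.mul_le_mul ?_ h1
      have h2 : b ≤ 2 * (b / 2) + 1 := by omega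
      nlinarith [Nat.zero_le (b / 2), Nat.zero_le j]
  have h := key (b - (b / 2 + 1)) (by omega)
  have e1 : b / 2 + (b - (b / 2 + 1)) = b - 1 := by omega
  rw [e1] at h
  have e2 : (b + 1) / 2 + 1 = (b - (b / 2 + 1)) + 2 := by omega
  rw [e2, pow_add, mul_comm (b ^ (b - (b / 2 + 1))), mul_assoc]
  exact le_trans (Nat.mul_le_mul_left _ h) (factorial_step (by omega) le_rfl)

variable [Fintype G]

/-- A normal subgroup on which `|ψ|²` is invariant. -/
theorem red_of_scalar (hb : Bd b G) (N : Subgroup G) [N.Normal] {ψ : IrrCharacter G} {f : ℕ}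
    (hf : (ψ : G → ℂ) 1 = f) (hf2 : 2 ≤ f) (hN : ∀ n ∈ N, Scalar (ψ : G → ℂ) n) : Red b N := by
  intro χ hχ hirr
  haveI : Fintype N := Fintype.ofFinite N
  have h1 := key (by have := hb.one_le; omega) hb N χ.2 ψ.2 hχ hf fun n g => hN n n.2 g
  rw [resNorm_of_irr N hirr] at h1
  have : f ≤ 1 := by exact_mod_cast h1
  omega

/-- A normal subgroup in the kernel of a nonlinear character halves the degrees. -/
theorem Bd.half (hb : Bd b G) (C : Subgroup G) [C.Normal] {ψ : IrrCharacter G} {f : ℕ}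
    (hf : (ψ : G → ℂ) 1 = f) (hf2 : 2 ≤ f) (hC : ∀ n ∈ C, (ψ : G → ℂ) n = (ψ : G → ℂ) 1) :
    Bd (b / 2) C := by
  haveI : Fintype C := Fintype.ofFinite C
  intro θ d hd
  obtain ⟨χ, hχ⟩ := exists_over C θ
  obtain ⟨D, hD0, hD⟩ := exists_nat_degree_irr χ.2
  have hdD := degree_le_of_over C hχ hd hD
  rw [Nat.le_div_iff_mul_le two_pos]
  rcases Nat.lt_or_ge D (d * 2) with hlt | hge
  swap
  · exact hge.trans (hb χ D hD)
  -- `χ` restricts to `θ`
  have hdeq : D = d := by
    have h := clifford_degree C χ.2 θ.2 hχ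
    obtain ⟨e, he⟩ := exists_nat_classInner (isCharacter_restrict C (isCharacter_of_isIrr χ.2))
      (isCharacter_of_isIrr θ.2)
    rw [he, hd, hD] at h
    have h' : D = e * ((orbit C (θ : C → ℂ)).card * d) := by exact_mod_cast h
    rw [← mul_assoc] at h'
    rcases Nat.lt_or_ge (e * (orbit C (θ : C → ℂ)).card) 2 with hk | hk
    · interval_cases hh : e * (orbit C (θ : C → ℂ)).card
      · omega
      · omega
    · have := Nat.mul_le_mul_right d hk
      omega
  have hirr := irr_of_degree_eq (isCharacter_restrict C (isCharacter_of_isIrr χ.2)) θ hχ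
    (by rw [Subgroup.coe_one, hD, hd, hdeq])
  have h1 := classInner_mul_le C (isCharacter_of_isIrr χ.2) ψ.2 fun n g =>
    scalar_of_kernel (isCharacter_of_isIrr ψ.2) (hC n n.2) g
  rw [resNorm_of_irr C hirr] at h1
  have hchar := isCharacter_mul (isCharacter_of_isIrr χ.2) (isCharacter_of_isIrr ψ.2)
  obtain ⟨k, hk⟩ := exists_nat_classInner hchar hchar
  have hk1 : k ≤ 1 := by rw [hk, Complex.natCast_re] at h1; exact_mod_cast h1
  have hk0 : k ≠ 0 := fun e => by
    rw [e, Nat.cast_zero] at hk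
    have := congrFun (eq_zero_of_classInner_self hk) 1
    exact mul_ne_zero (irr_degree_ne_zero χ.2) (irr_degree_ne_zero ψ.2) this
  have h2 : IsIrrCharacter G ((χ : G → ℂ) * (ψ : G → ℂ)) :=
    isIrr_of_norm_one hchar (by rw [hk, (by omega : k = 1), Nat.cast_one])
  have h3 := hb ⟨_, h2⟩ (D * f) (by simp [hD, hf])
  calc d * 2 ≤ D * f := Nat.mul_le_mul hdeq.ge hf2
    _ ≤ b := h3

/-- An element outside `C` with a class of size at most `b²`, when the index of `C` is large. -/
theorem exists_small_class_outside (hb : Bd b G) (C : Subgroup G) [C.Normal]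
    (hC : b ^ 4 < C.index) :
    ∃ g : G, g ∉ C ∧ (Subgroup.centralizer ({g} : Set G)).index ≤ b ^ 2 := by
  classical
  by_contra hcon
  push Not at hcon
  haveI : Fintype (ConjClasses G) := Fintype.ofFinite _
  set out : Finset G := Finset.univ.filter fun g => g ∉ C with hout
  set im : Finset (ConjClasses G) := out.image ConjClasses.mk with him
  have hk : Fintype.card (ConjClasses G) ≤ Nat.card C + im.card := by
    have hsub : (Finset.univ : Finset (ConjClasses G)) ⊆
        ((Finset.univ.filter fun g : G => g ∈ C).image ConjClasses.mk) ∪ im := by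
      intro c _
      obtain ⟨g, rfl⟩ := ConjClasses.exists_rep c
      by_cases hg : g ∈ C
      · exact Finset.mem_union_left _ (Finset.mem_image_of_mem _ (by simp [hg]))
      · exact Finset.mem_union_right _ (Finset.mem_image_of_mem _ (by simp [hout, hg]))
    refine (Finset.card_univ (α := ConjClasses G)) ▸ (Finset.card_le_card hsub).trans
      ((Finset.card_union_le _ _).trans (Nat.add_le_add_right ?_ _))
    refine Finset.card_image_le.trans (le_of_eq ?_)
    rw [Nat.card_eq_fintype_card, Fintype.card_subtype]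
  have hfib : (b ^ 2 + 1) * im.card ≤ out.card := by
    rw [Finset.card_eq_sum_card_image ConjClasses.mk out, mul_comm, ← smul_eq_mul]
    refine Finset.card_nsmul_le_sum _ _ _ fun c hc => ?_
    obtain ⟨g, hg, rfl⟩ := Finset.mem_image.mp hc
    have hgC : g ∉ C := (Finset.mem_filter.mp hg).2
    have h1 := hcon g hgC
    have h2 := Invol.card_isConj_mul_card_centralizer g
    rw [← (Subgroup.centralizer ({g} : Set G)).card_mul_index, mul_comm] at h2
    have h3 := Nat.eq_of_mul_eq_mul_left Nat.card_pos h2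
    calc b ^ 2 + 1 ≤ (Subgroup.centralizer ({g} : Set G)).index := h1
      _ = Nat.card {v : G // IsConj g v} := h3.symm
      _ ≤ _ := by
        rw [Nat.card_eq_fintype_card, Fintype.card_subtype]
        refine Finset.card_le_card fun v hv => ?_
        simp only [Finset.mem_filter, Finset.mem_univ, true_and] at hv ⊢
        refine ⟨Finset.mem_filter.mpr ⟨Finset.mem_univ _, fun hvC => hgC ?_⟩,
          ConjClasses.mk_eq_mk_iff_isConj.mpr (isConj_comm.mp hv)⟩
        obtain ⟨c, hc⟩ := isConj_iff.mp (isConj_comm.mp hv)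
        exact hc ▸ Subgroup.Normal.conj_mem inferInstance v hvC c
  have hout' : out.card + Nat.card C = Nat.card G := by
    rw [Nat.card_eq_fintype_card, Fintype.card_subtype, Nat.card_eq_fintype_card, add_comm,
      hout, Finset.card_filter_add_card_filter_not]
    rfl
  have hG : Nat.card G ≤ Fintype.card (ConjClasses G) * (b * b) := by
    choose d hd0 hd using fun χ : IrrCharacter G => exists_nat_degree_irr χ.2
    have hsq : ∑ χ : IrrCharacter G, d χ * d χ = Nat.card G := by
      have := sum_sq_degree (G := G)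
      simp only [hd, sq] at this
      exact_mod_cast this
    rw [← hsq, ← Nat.card_eq_fintype_card (α := ConjClasses G), ← card_irr_eq_card_conjClasses,
      Nat.card_eq_fintype_card, ← smul_eq_mul, ← Finset.card_univ]
    exact Finset.sum_le_card_nsmul _ _ _ fun χ _ => Nat.mul_le_mul (hb χ _ (hd χ)) (hb χ _ (hd χ))
  rw [← C.card_mul_index] at hout' hG
  have hC0 : 0 < Nat.card C := Nat.card_pos
  nlinarith [Nat.mul_le_mul_left (b ^ 2 + 1) hG, Nat.mul_le_mul_left ((b ^ 2 + 1) * (b * b)) hk,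
    Nat.mul_le_mul_left (b * b) hfib, Nat.mul_le_mul_left (Nat.card C) (Nat.succ_le_of_lt hC)]

end

end CfsgLib.IP
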